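/-
Golay orbits, part 1: certificates for orbits of stabilisers in `Cfsg.M24` on code words and on
points, counting of code words with a property, and orders of stabilisers.

Main results: `Fix`, `mem_Fix`, `toPerm_mem_Fix`, `grow`, `exists_smul_of_grow`,
`orbit_codeword`, `orbit_point`, `ncard_eq_countSpan`, `ncard_smul_congr`, `natCard_Fix_step`,
`conjEquiv`.
-/
import Cfsg.Agent.Lib.Golay.M24

set_option autoImplicit false
open scoped Pointwise
open Cfsg Cfsg.Agent.Golay

namespace Cfsg.Agent.GolayOrbits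

/-- The elements of `M24` fixing each of the sets coded by the masks in `S`. -/
def Fix (S : List ℕ) : Subgroup (Equiv.Perm GolayPt) where
  carrier := {g | g ∈ M24 ∧ ∀ m ∈ S, g • pts m = pts m}
  one_mem' := ⟨one_mem _, fun _ _ => one_smul _ _⟩
  mul_mem' := fun {g h} hg hh => ⟨mul_mem hg.1 hh.1, fun m hm => by
    rw [mul_smul, hh.2 m hm, hg.2 m hm]⟩
  inv_mem' := fun {g} hg => ⟨inv_mem hg.1, fun m hm => by
    rw [inv_smul_eq_iff, hg.2 m hm]⟩

theorem mem_Fix {S : List ℕ} {g : Equiv.Perm GolayPt} :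
    g ∈ Fix S ↔ g ∈ M24 ∧ ∀ m ∈ S, g • pts m = pts m := Iff.rfl

theorem Fix_nil : Fix [] = M24 := by
  ext g; simp [mem_Fix]

theorem mem_Fix_cons {S : List ℕ} {m : ℕ} {g : Equiv.Perm GolayPt} :
    g ∈ Fix (m :: S) ↔ g ∈ Fix S ∧ g • pts m = pts m := by
  simp only [mem_Fix, List.forall_mem_cons]
  tauto

theorem pts_single {i : ℕ} (hi : i < 24) : pts (1 <<< i) = {pt i} := by
  revert i; decide +kernel

theorem pts_single_idx (p : GolayPt) : pts (1 <<< idx p) = {p} := by
  rw [pts_single (idx_lt p), pt_idx]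

theorem smul_single_iff {g : Equiv.Perm GolayPt} {p q : GolayPt} :
    g • ({p} : Finset GolayPt) = {q} ↔ g p = q := by
  rw [Finset.smul_finset_singleton, Finset.singleton_inj, Equiv.Perm.smul_def]

/-- `d` codes an element of `Fix S`. -/
def fixes (S : List ℕ) (d : ℕ) : Bool := isAut d && S.all fun m => imgMask d m == m

theorem toPerm_mem_Fix {S : List ℕ} {d : ℕ} (h : fixes S d = true) : toPerm d ∈ Fix S := by
  simp only [fixes, Bool.and_eq_true, List.all_eq_true, beq_iff_eq] at h
  refine ⟨toPerm_mem_M24 h.1, fun m hm => ?_⟩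
  rw [← pts_imgMask (validPerm_of_isAut h.1), h.2 m hm]

theorem imgMask_lt {d : ℕ} (hd : validPerm d = true) (m : ℕ) : imgMask d m < 2 ^ 24 := by
  refine Nat.lt_pow_two_of_testBit _ fun i hi => ?_
  rw [← Bool.not_eq_true]
  intro h
  obtain ⟨k, hk, -, he⟩ := (testBit_imgAux d m i 24).mp h
  have := fn_lt_of_valid hd hk
  omega

/-- Saturation along a certificate: a step `s` applies generator `s % 16` to the mask `s / 16`,
which must have been reached before; masks are recorded by their key. -/
def grow (gens : List ℕ) (key : ℕ → ℕ) (dom : ℕ → Bool) : List ℕ → ℕ → ℕ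
  | [], R => R
  | s :: rest, R =>
    bif R.testBit (key (s / 16)) && dom (s / 16) &&
        dom (imgMask (gens.getD (s % 16) 0) (s / 16)) && Nat.blt (s % 16) gens.length
      then grow gens key dom rest (R ||| 1 <<< key (imgMask (gens.getD (s % 16) 0) (s / 16)))
      else grow gens key dom rest R

theorem exists_smul_of_grow {H : Subgroup (Equiv.Perm GolayPt)} {gens : List ℕ}
    (hgens : ∀ d ∈ gens, validPerm d = true ∧ toPerm d ∈ H) {key : ℕ → ℕ} {dom : ℕ → Bool}
    (hkey : ∀ a b, dom a = true → dom b = true → key a = key b → a = b) (rep : ℕ) :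
    ∀ (steps : List ℕ) (R : ℕ),
      (∀ a, dom a = true → R.testBit (key a) = true → ∃ g ∈ H, g • pts rep = pts a) →
      ∀ a, dom a = true → (grow gens key dom steps R).testBit (key a) = true →
        ∃ g ∈ H, g • pts rep = pts a
  | [], R, hR => hR
  | s :: rest, R, hR => by
    rw [grow]
    cases hc : (R.testBit (key (s / 16)) && dom (s / 16) &&
          dom (imgMask (gens.getD (s % 16) 0) (s / 16)) && Nat.blt (s % 16) gens.length) with
    | false =>
      rw [cond_false]
      exact exists_smul_of_grow hgens hkey rep rest R hR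
    | true =>
      rw [cond_true]
      refine exists_smul_of_grow hgens hkey rep rest _ fun a ha hbit => ?_
      rw [Nat.testBit_or, Bool.or_eq_true, Nat.one_shiftLeft,
        Nat.testBit_two_pow, decide_eq_true_eq] at hbit
      rcases hbit with hbit | hbit
      · exact hR a ha hbit
      simp only [Bool.and_eq_true, Nat.blt_eq] at hc
      obtain ⟨⟨⟨h1, h2⟩, h3⟩, h4⟩ := hc
      have hd := hgens (gens.getD (s % 16) 0)
        (List.getD_eq_getElem gens 0 h4 ▸ List.getElem_mem h4)
      obtain ⟨g, hg, hgm⟩ := hR _ h2 h1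
      refine ⟨toPerm (gens.getD (s % 16) 0) * g, mul_mem hd.2 hg, ?_⟩
      rw [mul_smul, hgm, ← pts_imgMask hd.1, hkey _ _ h3 ha hbit]

/-- The check that the codes reached from `rep` are exactly recorded in `R`, that every generator
fixes `S`, and that every code word with property `p` is in `R`. -/
def codeCert (S gens : List ℕ) (rep : ℕ) (steps : List ℕ) (R : ℕ) (p : ℕ → Bool) : Bool :=
  gens.all (fixes S) && isCode rep &&
    grow gens (fun m => m % 4096) isCode steps (1 <<< (rep % 4096)) == R &&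
    allSpan (fun m => !p m || R.testBit (m % 4096)) rows 0

theorem exists_smul_of_codeCert {S gens : List ℕ} {rep : ℕ} {steps : List ℕ} {R : ℕ}
    {p : ℕ → Bool} (h : codeCert S gens rep steps R p = true) {s : Finset GolayPt}
    (hs : s ∈ supports (golayCode : Set (GolayPt → ZMod 2))) (hp : p (maskOf s) = true) :
    ∃ g ∈ Fix S, g • pts rep = s := by
  simp only [codeCert, Bool.and_eq_true, beq_iff_eq, List.all_eq_true] at h
  obtain ⟨⟨⟨hgens, hrep⟩, hgrow⟩, hall⟩ := h
  have hkey : ∀ a b, isCode a = true → isCode b = true → a % 4096 = b % 4096 → a = b := by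
    intro a b ha hb hab
    simp only [isCode, beq_iff_eq] at ha hb
    rw [← ha, ← hb, hab]
  have hbit := supports_forall hall hs
  rw [hp, Bool.not_true, Bool.false_or, ← hgrow] at hbit
  obtain ⟨g, hg, hgm⟩ := exists_smul_of_grow (H := Fix S)
    (fun d hd => ⟨validPerm_of_isAut (Bool.and_eq_true_iff.mp (hgens d hd)).1,
      toPerm_mem_Fix (hgens d hd)⟩) hkey rep steps _
    (fun a ha hb => by
      rw [Nat.one_shiftLeft, Nat.testBit_two_pow, decide_eq_true_eq] at hb
      exact ⟨1, one_mem _, by rw [one_smul, hkey _ _ hrep ha hb]⟩)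
    (maskOf s) (mem_supports_iff.mp hs) hbit
  exact ⟨g, hg, hgm.trans (pts_maskOf s)⟩

/-- Two code words with property `p` are in one orbit of `Fix S`. -/
theorem orbit_codeword {S gens : List ℕ} {rep : ℕ} {steps : List ℕ} {R : ℕ}
    {p : ℕ → Bool} (h : codeCert S gens rep steps R p = true) {s t : Finset GolayPt}
    (hs : s ∈ supports (golayCode : Set (GolayPt → ZMod 2))) (hp : p (maskOf s) = true)
    (ht : t ∈ supports (golayCode : Set (GolayPt → ZMod 2))) (hp' : p (maskOf t) = true) :
    ∃ g ∈ Fix S, g • s = t := by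
  obtain ⟨a, ha, has⟩ := exists_smul_of_codeCert h hs hp
  obtain ⟨b, hb, hbt⟩ := exists_smul_of_codeCert h ht hp'
  exact ⟨b * a⁻¹, mul_mem hb (inv_mem ha), by rw [mul_smul, ← has, inv_smul_smul, hbt]⟩

/-- The check that `Fix S` moves the point `rep` to every point of the mask `target`. -/
def pointCert (S gens : List ℕ) (rep : ℕ) (steps : List ℕ) (target : ℕ) : Bool :=
  gens.all (fixes S) && Nat.blt rep 24 &&
    (List.range 24).all fun i => !target.testBit i ||
      (grow gens (fun m => m % 29) (fun m => (List.range 24).any fun j => m == 1 <<< j) steps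
        (1 <<< ((1 <<< rep) % 29))).testBit ((1 <<< i) % 29)

theorem exists_apply_of_pointCert {S gens : List ℕ} {rep : ℕ} {steps : List ℕ} {target : ℕ}
    (h : pointCert S gens rep steps target = true) {q : GolayPt} (hq : q ∈ pts target) :
    ∃ g ∈ Fix S, g (pt rep) = q := by
  simp only [pointCert, Bool.and_eq_true, List.all_eq_true, Nat.blt_eq, List.mem_range] at h
  obtain ⟨⟨hgens, hrep⟩, hall⟩ := h
  have hdom : ∀ i < 24, ((List.range 24).any fun j => (1 <<< i) == 1 <<< j) = true :=
    fun i hi => List.any_eq_true.mpr ⟨i, List.mem_range.mpr hi, by simp⟩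
  have hkey : ∀ a b, ((List.range 24).any fun j => a == 1 <<< j) = true →
      ((List.range 24).any fun j => b == 1 <<< j) = true → a % 29 = b % 29 → a = b := by
    intro a b ha hb
    simp only [List.any_eq_true, beq_iff_eq, List.mem_range] at ha hb
    obtain ⟨i, hi, rfl⟩ := ha
    obtain ⟨j, hj, rfl⟩ := hb
    have hinj : ∀ i < 24, ∀ j < 24, (1 <<< i) % 29 = (1 <<< j) % 29 → i = j := by decide +kernel
    intro hab
    rw [hinj i hi j hj hab]
  have hbit := hall (idx q) (idx_lt q)
  rw [mem_pts.mp hq, Bool.not_true, Bool.false_or] at hbit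
  obtain ⟨g, hg, hgm⟩ := exists_smul_of_grow (H := Fix S)
    (fun d hd => ⟨validPerm_of_isAut (Bool.and_eq_true_iff.mp (hgens d hd)).1,
      toPerm_mem_Fix (hgens d hd)⟩) hkey (1 <<< rep) steps _
    (fun a ha hb => by
      rw [Nat.one_shiftLeft, Nat.testBit_two_pow, decide_eq_true_eq] at hb
      exact ⟨1, one_mem _, by rw [one_smul, hkey _ _ (hdom rep hrep) ha (by simpa using hb)]⟩)
    _ (hdom _ (idx_lt q)) hbit
  rw [pts_single hrep, pts_single_idx, smul_single_iff] at hgm
  exact ⟨g, hg, hgm⟩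

/-- Two points of `target` are in one orbit of `Fix S`. -/
theorem orbit_point {S gens : List ℕ} {rep : ℕ} {steps : List ℕ} {target : ℕ}
    (h : pointCert S gens rep steps target = true) {q r : GolayPt} (hq : q ∈ pts target)
    (hr : r ∈ pts target) : ∃ g ∈ Fix S, g q = r := by
  obtain ⟨a, ha, haq⟩ := exists_apply_of_pointCert h hq
  obtain ⟨b, hb, hbr⟩ := exists_apply_of_pointCert h hr
  exact ⟨b * a⁻¹, mul_mem hb (inv_mem ha), by
    rw [Equiv.Perm.mul_apply, ← haq, Equiv.Perm.coe_inv, Equiv.symm_apply_apply, hbr]⟩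

/-! ### Counting -/

/-- Supports with a property, counted over the 4096 words. -/
theorem ncard_eq_countSpan {P : Finset GolayPt → Prop} {p : ℕ → Bool}
    (hP : ∀ s, P s → s ∈ supports (golayCode : Set (GolayPt → ZMod 2)))
    (h : ∀ m, isCode m = true → (P (pts m) ↔ p m = true)) :
    {s | P s}.ncard = countSpan p rows 0 := by
  rw [countSpan_eq, show rows.length = 12 from rfl]
  have hset : {s | P s} = ↑(((Finset.range (2 ^ 12)).filter
      fun x => p (0 ^^^ encAux rows x) = true).image fun x => pts (enc x)) := by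
    ext s
    simp only [Finset.coe_image, Set.mem_image, Finset.coe_filter, Finset.mem_range,
      Nat.zero_xor, Set.mem_ofPred_eq]
    constructor
    · intro hs
      obtain ⟨x, hx, rfl⟩ := mem_supports_iff_exists.mp (hP s hs)
      exact ⟨x, ⟨hx, (h _ (isCode_enc x)).mp hs⟩, rfl⟩
    · rintro ⟨x, ⟨-, hx⟩, rfl⟩
      exact (h _ (isCode_enc x)).mpr hx
  rw [hset, Set.ncard_coe_finset, Finset.card_image_of_injOn]
  intro x hx y hy hxy
  simp only [Finset.coe_filter, Finset.mem_range, Set.mem_ofPred_eq] at hx hy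
  exact enc_injOn hx.1 hy.1 (pts_injOn (enc_lt x) (enc_lt y) hxy)

/-- A count transported by a permutation. -/
theorem ncard_smul_congr (g : Equiv.Perm GolayPt) {P Q : Finset GolayPt → Prop}
    (h : ∀ s, P (g • s) ↔ Q s) : {s | P s}.ncard = {s | Q s}.ncard := by
  have he : {s | P s} = (fun s => g • s) '' {s | Q s} := by
    ext s
    constructor
    · intro hs
      exact ⟨g⁻¹ • s, (h _).mp (by rwa [smul_inv_smul]), smul_inv_smul g s⟩
    · rintro ⟨t, ht, rfl⟩
      exact (h t).mpr ht
  rw [he, Set.ncard_image_of_injective _ (MulAction.injective g)]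

theorem card_smul_inter (g : Equiv.Perm GolayPt) (s t : Finset GolayPt) :
    (g • s ∩ g • t).card = (s ∩ t).card := by
  rw [← Finset.smul_finset_inter, Finset.card_smul_finset]

theorem smul_mem_octads_iff {g : Equiv.Perm GolayPt} (hg : g ∈ M24) {s : Finset GolayPt} :
    g • s ∈ octads ↔ s ∈ octads :=
  ⟨fun h => by simpa using smul_mem_octads (inv_mem hg) h, smul_mem_octads hg⟩

theorem smul_mem_dodecads_iff {g : Equiv.Perm GolayPt} (hg : g ∈ M24) {s : Finset GolayPt} :
    g • s ∈ dodecads ↔ s ∈ dodecads :=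
  ⟨fun h => by simpa using smul_mem_dodecads (inv_mem hg) h, smul_mem_dodecads hg⟩

theorem apply_mem_smul_iff (g : Equiv.Perm GolayPt) {p : GolayPt} {s : Finset GolayPt} :
    g p ∈ g • s ↔ p ∈ s :=
  Finset.smul_mem_smul_finset_iff (b := p) g

/-- Orbit-stabiliser for one more fixed set. -/
theorem natCard_Fix_step (S : List ℕ) (m : ℕ) (Q : Finset GolayPt → Prop)
    (hup : ∀ g ∈ Fix S, Q (g • pts m)) (hlow : ∀ s, Q s → ∃ g ∈ Fix S, g • pts m = s) :
    Nat.card (Fix S) = {s | Q s}.ncard * Nat.card (Fix (m :: S)) := by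
  have horb : MulAction.orbit (Fix S) (pts m) = {s | Q s} := by
    ext y
    constructor
    · rintro ⟨g, rfl⟩
      exact hup g g.2
    · intro hy
      obtain ⟨g, hg, rfl⟩ := hlow y hy
      exact ⟨⟨g, hg⟩, rfl⟩
  have hidx := MulAction.index_stabilizer (Fix S) (pts m)
  rw [horb] at hidx
  have hst : MulAction.stabilizer (Fix S) (pts m) = (Fix (m :: S)).subgroupOf (Fix S) := by
    ext g
    rw [Subgroup.mem_subgroupOf, mem_Fix_cons]
    exact ⟨fun h => ⟨g.2, h⟩, fun h => h.2⟩
  rw [← (MulAction.stabilizer (Fix S) (pts m)).index_mul_card, hidx, hst,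
    Nat.card_congr (Subgroup.subgroupOfEquivOfLe
      (fun _ hg => (mem_Fix_cons.mp hg).1)).toEquiv]

/-- A subgroup of `M24` that is the conjugate of `K` by `t`, as an abstract group. -/
def conjEquiv {H : Subgroup ↥M24} {K : Subgroup (Equiv.Perm GolayPt)} (hK : K ≤ M24)
    (t : Equiv.Perm GolayPt) (ht : t ∈ M24)
    (h : ∀ x : ↥M24, x ∈ H ↔ t⁻¹ * (x : Equiv.Perm GolayPt) * t ∈ K) : ↥H ≃* ↥K where
  toFun x := ⟨t⁻¹ * ((x : ↥M24) : Equiv.Perm GolayPt) * t, (h _).mp x.2⟩
  invFun y := ⟨⟨t * y * t⁻¹, mul_mem (mul_mem ht (hK y.2)) (inv_mem ht)⟩,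
    (h _).mpr (by
      show t⁻¹ * (t * (y : Equiv.Perm GolayPt) * t⁻¹) * t ∈ K
      simp [mul_assoc])⟩
  left_inv x := Subtype.ext (Subtype.ext (by simp [mul_assoc]))
  right_inv y := Subtype.ext (by simp [mul_assoc])
  map_mul' x y := Subtype.ext (by simp [mul_assoc])

end Cfsg.Agent.GolayOrbits
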