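/-
Golay orbits, part 3: `M24` is transitive on dodecads, the stabiliser of the dodecad of squares is
transitive on ordered triples of its points and its orders along that chain.

Main results: `dodec0_mem`, `exists_map_dodecad`, `natCard_Fix_dodec`, `natCard_Fix_chain`,
`exists_map_dodecad_point`, `exists_map_dodecad_three`, `exists_map_dodecad_point_pair`.
-/
import Cfsg.Agent.Lib.GolayOrbits.Basic
import Cfsg.Agent.Lib.GolayOrbits.Data

set_option autoImplicit false
set_option maxRecDepth 40000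
open scoped Pointwise
open Cfsg Cfsg.Agent.Golay

namespace Cfsg.Agent.GolayOrbits

theorem dodec0_mem : pts dodec0 ∈ dodecads := pts_mem_dodecads (by decide +kernel)

theorem dodec_cert :
    codeCert [] dodecGens dodecRep dodecSteps dodecSet (fun m => popcount m == 12) = true := by
  decide +kernel

/-- `M24` is transitive on dodecads. -/
theorem exists_map_dodecad {d d' : Finset GolayPt} (hd : d ∈ dodecads) (hd' : d' ∈ dodecads) :
    ∃ g ∈ M24, g • d = d' := by
  obtain ⟨g, hg, h⟩ := orbit_codeword dodec_cert hd.1 (by rw [popcount_maskOf]; simpa using hd.2)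
    hd'.1 (by rw [popcount_maskOf]; simpa using hd'.2)
  exact ⟨g, Fix_nil ▸ hg, h⟩

theorem natCard_Fix_dodec : Nat.card (Fix [dodec0]) = 95040 := by
  have h := natCard_Fix_step [] dodec0 (fun s => s ∈ dodecads)
    (fun g hg => smul_mem_dodecads (Fix_nil ▸ hg) dodec0_mem) fun s hs => by
      obtain ⟨g, hg, he⟩ := exists_map_dodecad dodec0_mem hs
      exact ⟨g, Fix_nil.symm ▸ hg, he⟩
  rw [Fix_nil, natCard_M24, Set.ofPred_mem_eq, ncard_dodecads] at h
  omega

theorem chain0_cert : pointCert [dodec0] chain0Gens 0 chain0Steps dodec0 = true := by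
  decide +kernel

theorem chain1_cert : pointCert [dodec0, 1 <<< 0] chain1Gens 1 chain1Steps 0x5335e = true := by
  decide +kernel

theorem chain2_cert :
    pointCert [dodec0, 1 <<< 0, 1 <<< 1] chain2Gens 2 chain2Steps 0x5335c = true := by
  decide +kernel

theorem chain3_cert :
    pointCert [dodec0, 1 <<< 0, 1 <<< 1, 1 <<< 2] chain3Gens 5 chain3Steps 0xfacca0 = true := by
  decide +kernel

theorem out1_cert : pointCert [dodec0, 1 <<< 0] out1Gens 5 out1Steps 0xfacca0 = true := by
  decide +kernel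

theorem out2_cert : pointCert [dodec0, 1 <<< 0, 1 <<< 5] out2Gens 7 out2Steps 0xfacc80 = true := by
  decide +kernel

theorem mem_dodec0_compl {p : GolayPt} : p ∈ pts 0xfacca0 ↔ p ∉ pts dodec0 := by
  revert p; decide +kernel

/-- The stabiliser of a dodecad is transitive on ordered triples of distinct points of it. -/
theorem exists_map_dodecad_three {d : Finset GolayPt} (hd : d ∈ dodecads) {p q r : GolayPt}
    (hp : p ∈ d) (hq : q ∈ d) (hr : r ∈ d) (hpq : p ≠ q) (hpr : p ≠ r) (hqr : q ≠ r) :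
    ∃ g ∈ M24, g • pts dodec0 = d ∧ g (pt 0) = p ∧ g (pt 1) = q ∧ g (pt 2) = r := by
  obtain ⟨a, ha, had⟩ := exists_map_dodecad dodec0_mem hd
  have hmem : ∀ {x}, x ∈ d → a⁻¹ x ∈ pts dodec0 := fun {x} hx => by
    rw [← apply_mem_smul_iff a, had]; simpa using hx
  obtain ⟨b, hb, hbp⟩ := exists_apply_of_pointCert chain0_cert (hmem hp)
  have hbd : b • pts dodec0 = pts dodec0 := hb.2 dodec0 (by simp)
  have hmem1 : ∀ {x}, x ∈ d → b⁻¹ (a⁻¹ x) ∈ pts dodec0 := fun {x} hx => by
    rw [← apply_mem_smul_iff b, hbd]; simpa using hmem hx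
  have e1 : ∀ {x}, x ∈ d → p ≠ x → b⁻¹ (a⁻¹ x) ∈ pts 0x5335e := fun {x} hx hne => by
    have hne' : b⁻¹ (a⁻¹ x) ≠ pt 0 := fun he => hne (by
      have := congrArg (fun y => a (b y)) he
      simp only [Equiv.Perm.coe_inv, Equiv.apply_symm_apply] at this
      rw [this, hbp]; simp)
    exact (by decide +kernel : ∀ y : GolayPt, y ∈ pts dodec0 → y ≠ pt 0 → y ∈ pts 0x5335e)
      _ (hmem1 hx) hne'
  obtain ⟨c, hc, hcq⟩ := exists_apply_of_pointCert chain1_cert (e1 hq hpq)
  have hcd : c • pts dodec0 = pts dodec0 := hc.2 dodec0 (by simp)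
  have hc0 : c (pt 0) = pt 0 := by
    have := hc.2 (1 <<< 0) (by simp)
    rwa [pts_single (by norm_num), smul_single_iff] at this
  have e2 : c⁻¹ (b⁻¹ (a⁻¹ r)) ∈ pts 0x5335c := by
    have hin : c⁻¹ (b⁻¹ (a⁻¹ r)) ∈ pts dodec0 := by
      rw [← apply_mem_smul_iff c, hcd]; simpa using hmem1 hr
    have h0 : c⁻¹ (b⁻¹ (a⁻¹ r)) ≠ pt 0 := fun he => hpr (by
      have := congrArg (fun y => a (b (c y))) he
      simp only [Equiv.Perm.coe_inv, Equiv.apply_symm_apply] at this
      rw [this, hc0, hbp]; simp)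
    have h1 : c⁻¹ (b⁻¹ (a⁻¹ r)) ≠ pt 1 := fun he => hqr (by
      have := congrArg (fun y => a (b (c y))) he
      simp only [Equiv.Perm.coe_inv, Equiv.apply_symm_apply] at this
      rw [this, hcq]; simp)
    exact (by decide +kernel : ∀ y : GolayPt, y ∈ pts dodec0 → y ≠ pt 0 → y ≠ pt 1 →
      y ∈ pts 0x5335c) _ hin h0 h1
  obtain ⟨e, he, her⟩ := exists_apply_of_pointCert chain2_cert e2
  have hed : e • pts dodec0 = pts dodec0 := he.2 dodec0 (by simp)
  have he0 : e (pt 0) = pt 0 := by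
    have := he.2 (1 <<< 0) (by simp)
    rwa [pts_single (by norm_num), smul_single_iff] at this
  have he1 : e (pt 1) = pt 1 := by
    have := he.2 (1 <<< 1) (by simp)
    rwa [pts_single (by norm_num), smul_single_iff] at this
  refine ⟨a * b * c * e, mul_mem (mul_mem (mul_mem ha hb.1) hc.1) he.1, ?_, ?_, ?_, ?_⟩
  · rw [mul_smul, mul_smul, mul_smul, hed, hcd, hbd, had]
  · simp [he0, hc0, hbp]
  · simp [he1, hcq]
  · simp [her]

/-- The stabiliser of a dodecad is transitive on its points. -/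
theorem exists_map_dodecad_point {d : Finset GolayPt} (hd : d ∈ dodecads) {p : GolayPt}
    (hp : p ∈ d) : ∃ g ∈ M24, g • pts dodec0 = d ∧ g (pt 0) = p := by
  obtain ⟨a, ha, had⟩ := exists_map_dodecad dodec0_mem hd
  have hmem : a⁻¹ p ∈ pts dodec0 := by
    rw [← apply_mem_smul_iff a, had]; simpa using hp
  obtain ⟨b, hb, hbp⟩ := exists_apply_of_pointCert chain0_cert hmem
  exact ⟨a * b, mul_mem ha hb.1, by rw [mul_smul, hb.2 dodec0 (by simp), had], by simp [hbp]⟩

/-- A dodecad, a point of it and two points outside it can be moved to a standard position. -/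
theorem exists_map_dodecad_point_pair {d : Finset GolayPt} (hd : d ∈ dodecads) {p q q' : GolayPt}
    (hp : p ∈ d) (hq : q ∉ d) (hq' : q' ∉ d) (hne : q ≠ q') :
    ∃ g ∈ M24, g • pts dodec0 = d ∧ g (pt 0) = p ∧ g (pt 5) = q ∧ g (pt 7) = q' := by
  obtain ⟨a, ha, had, hap⟩ := exists_map_dodecad_point hd hp
  have hout : ∀ {x}, x ∉ d → a⁻¹ x ∈ pts 0xfacca0 := fun {x} hx => by
    rw [mem_dodec0_compl, ← apply_mem_smul_iff a, had]; simpa using hx
  obtain ⟨b, hb, hbq⟩ := exists_apply_of_pointCert out1_cert (hout hq)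
  have hbd : b • pts dodec0 = pts dodec0 := hb.2 dodec0 (by simp)
  have hb0 : b (pt 0) = pt 0 := by
    have := hb.2 (1 <<< 0) (by simp)
    rwa [pts_single (by norm_num), smul_single_iff] at this
  have e2 : b⁻¹ (a⁻¹ q') ∈ pts 0xfacc80 := by
    have hin : b⁻¹ (a⁻¹ q') ∉ pts dodec0 := by
      rw [← apply_mem_smul_iff b, hbd, ← apply_mem_smul_iff a, had]; simpa using hq'
    have h5 : b⁻¹ (a⁻¹ q') ≠ pt 5 := fun he => hne (by
      have := congrArg (fun y => a (b y)) he
      simp only [Equiv.Perm.coe_inv, Equiv.apply_symm_apply] at this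
      rw [this, hbq]; simp)
    exact (by decide +kernel : ∀ y : GolayPt, y ∉ pts dodec0 → y ≠ pt 5 → y ∈ pts 0xfacc80)
      _ hin h5
  obtain ⟨c, hc, hcq⟩ := exists_apply_of_pointCert out2_cert e2
  have hc0 : c (pt 0) = pt 0 := by
    have := hc.2 (1 <<< 0) (by simp)
    rwa [pts_single (by norm_num), smul_single_iff] at this
  have hc5 : c (pt 5) = pt 5 := by
    have := hc.2 (1 <<< 5) (by simp)
    rwa [pts_single (by norm_num), smul_single_iff] at this
  refine ⟨a * b * c, mul_mem (mul_mem ha hb.1) hc.1, ?_, ?_, ?_, ?_⟩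
  · rw [mul_smul, mul_smul, hc.2 dodec0 (by simp), hbd, had]
  · simp [hc0, hb0, hap]
  · simp [hc5, hbq]
  · simp [hcq]

/-- One step down the point chain. -/
theorem natCard_Fix_point {S gens steps : List ℕ} {rep target : ℕ} (hrep : rep < 24)
    (h : pointCert S gens rep steps target = true)
    (hup : ∀ g ∈ Fix S, g (pt rep) ∈ pts target) :
    Nat.card (Fix S) = popcount target * Nat.card (Fix ((1 <<< rep) :: S)) := by
  have hs := natCard_Fix_step S (1 <<< rep) (fun s => ∃ q ∈ pts target, s = {q})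
    (fun g hg => ⟨_, hup g hg, by
      rw [pts_single hrep, Finset.smul_finset_singleton, Equiv.Perm.smul_def]⟩)
    (by
      rintro _ ⟨q, hq, rfl⟩
      obtain ⟨g, hg, hgq⟩ := exists_apply_of_pointCert h hq
      exact ⟨g, hg, by rw [pts_single hrep, smul_single_iff, hgq]⟩)
  rw [hs, ← card_pts]
  congr 1
  rw [← Set.ncard_coe_finset,
    show {s : Finset GolayPt | ∃ q ∈ pts target, s = {q}} =
      (fun q => ({q} : Finset GolayPt)) '' ↑(pts target) by
        ext; exact ⟨fun ⟨q, hq, e⟩ => ⟨q, hq, e.symm⟩, fun ⟨q, hq, e⟩ => ⟨q, hq, e.symm⟩⟩,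
    Set.ncard_image_of_injective _ Finset.singleton_injective]

theorem apply_mem_of_fixed {g : Equiv.Perm GolayPt} {s : Finset GolayPt} (h : g • s = s)
    {p : GolayPt} : g p ∈ s ↔ p ∈ s := by
  conv_lhs => rw [← h]
  exact apply_mem_smul_iff g

theorem apply_eq_of_Fix {S : List ℕ} {g : Equiv.Perm GolayPt} (hg : g ∈ Fix S) {i : ℕ}
    (hi : i < 24) (h : (1 <<< i) ∈ S) : g (pt i) = pt i := by
  have := hg.2 _ h
  rwa [pts_single hi, smul_single_iff] at this

theorem natCard_Fix_chain :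
    Nat.card (Fix [1 <<< 0, dodec0]) = 7920 ∧ Nat.card (Fix [1 <<< 1, 1 <<< 0, dodec0]) = 720 ∧
      Nat.card (Fix [1 <<< 2, 1 <<< 1, 1 <<< 0, dodec0]) = 72 := by
  have e0 := natCard_Fix_point (S := [dodec0]) (rep := 0) (by norm_num) chain0_cert
    fun g hg => (apply_mem_of_fixed (hg.2 dodec0 (by simp))).mpr (by decide +kernel)
  have hperm : ∀ {A B : List ℕ}, (∀ x, x ∈ A ↔ x ∈ B) → Fix A = Fix B := fun hAB => by
    ext g; simp only [mem_Fix, hAB]
  have e1 := natCard_Fix_point (S := [dodec0, 1 <<< 0]) (rep := 1) (by norm_num) chain1_cert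
    fun g hg => by
      refine (by decide +kernel : ∀ y : GolayPt, y ∈ pts dodec0 → y ≠ pt 0 → y ∈ pts 0x5335e)
        _ ((apply_mem_of_fixed (hg.2 dodec0 (by simp))).mpr (by decide +kernel)) fun he => ?_
      rw [← apply_eq_of_Fix hg (i := 0) (by norm_num) (by simp)] at he
      exact (by decide +kernel : pt 1 ≠ pt 0) (g.injective he)
  have e2 := natCard_Fix_point (S := [dodec0, 1 <<< 0, 1 <<< 1]) (rep := 2) (by norm_num)
    chain2_cert fun g hg => by
      refine (by decide +kernel : ∀ y : GolayPt, y ∈ pts dodec0 → y ≠ pt 0 → y ≠ pt 1 →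
        y ∈ pts 0x5335c) _ ((apply_mem_of_fixed (hg.2 dodec0 (by simp))).mpr (by decide +kernel))
        (fun he => ?_) fun he => ?_
      · rw [← apply_eq_of_Fix hg (i := 0) (by norm_num) (by simp)] at he
        exact (by decide +kernel : pt 2 ≠ pt 0) (g.injective he)
      · rw [← apply_eq_of_Fix hg (i := 1) (by norm_num) (by simp)] at he
        exact (by decide +kernel : pt 2 ≠ pt 1) (g.injective he)
  rw [natCard_Fix_dodec, show popcount dodec0 = 12 from by decide +kernel] at e0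
  rw [hperm (A := [dodec0, 1 <<< 0]) (B := [1 <<< 0, dodec0]) (by simp [or_comm]),
    hperm (A := [1 <<< 1, dodec0, 1 <<< 0]) (B := [1 <<< 1, 1 <<< 0, dodec0]) (by simp; tauto),
    show popcount 0x5335e = 11 from by decide +kernel] at e1
  rw [hperm (A := [dodec0, 1 <<< 0, 1 <<< 1]) (B := [1 <<< 1, 1 <<< 0, dodec0]) (by simp; tauto),
    hperm (A := [1 <<< 2, dodec0, 1 <<< 0, 1 <<< 1]) (B := [1 <<< 2, 1 <<< 1, 1 <<< 0, dodec0])
      (by simp; tauto),
    show popcount 0x5335c = 10 from by decide +kernel] at e2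
  omega

end Cfsg.Agent.GolayOrbits
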