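/-
Golay orbits, part 4: an octad with marked points, moved to standard position, and the transfer of
orbit statements from the standard position.

Main results: `exists_map_octad_pair_in`, `exists_map_octad_in_out`, `exists_map_octad_point_in`,
`exists_map_octad_point_out`, `exists_map_of_standard`, `card_inter_pts`, `mem_pts_smul`.
-/
import Cfsg.Agent.Lib.GolayOrbits.Dodecad

set_option autoImplicit false
open scoped Pointwise
open Cfsg Cfsg.Agent.Golay

namespace Cfsg.Agent.GolayOrbits

/-- Six points of `o` starting with given ones and one point outside form a frame. -/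
theorem exists_frame_of_octad {o : Finset GolayPt} (ho : o ∈ octads) {l : List GolayPt}
    (hl : l.Nodup) (hlen : l.length ≤ 6) (hlo : ∀ x ∈ l, x ∈ o) {e : GolayPt} (he : e ∉ o) :
    ∃ y : Fin 7 → GolayPt, IsFrame y ∧ (∀ i : Fin 7, i.val < 6 → y i ∈ o) ∧
      (∀ (i : ℕ) (hi : i < l.length), y ⟨i, by omega⟩ = l[i]) ∧ y 6 = e := by
  classical
  obtain ⟨t, hlt, hto, ht⟩ := Finset.exists_subsuperset_card_eq (s := l.toFinset) (t := o) (n := 6)
    (fun x hx => hlo x (List.mem_toFinset.mp hx))
    (by rw [List.toFinset_card_of_nodup hl]; omega) (by rw [ho.2]; norm_num)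
  let rest := (t \ l.toFinset).toList
  let L := l ++ rest ++ [e]
  have hrest : ∀ x ∈ rest, x ∈ o := fun x hx =>
    hto (Finset.mem_sdiff.mp (Finset.mem_toList.mp hx)).1
  have hlen6 : (l ++ rest).length = 6 := by
    have : rest.length = 6 - l.length := by
      rw [Finset.length_toList, Finset.card_sdiff_of_subset hlt, ht,
        List.toFinset_card_of_nodup hl]
    rw [List.length_append, this]; omega
  have hL : L.length = 7 := by simp only [L, List.length_append, List.length_singleton]; simp at hlen6; omega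
  have hnd : L.Nodup := by
    refine List.nodup_append.mpr ⟨List.nodup_append.mpr ⟨hl, Finset.nodup_toList _, ?_⟩,
      List.nodup_singleton e, ?_⟩
    · intro a ha b hb hab
      subst hab
      exact (Finset.mem_sdiff.mp (Finset.mem_toList.mp hb)).2 (List.mem_toFinset.mpr ha)
    · intro a ha b hb hab
      rw [List.mem_singleton] at hb
      subst hb hab
      rcases List.mem_append.mp ha with ha | ha
      · exact he (hlo a ha)
      · exact he (hrest a ha)
  have hin : ∀ (i : Fin 7), i.val < 6 → L[i.val]'(by omega) ∈ o := fun i hi => by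
    have hm : L[i.val]'(by omega) ∈ l ++ rest := by
      rw [List.getElem_append_left (by omega)]
      exact List.getElem_mem _
    rcases List.mem_append.mp hm with h | h
    · exact hlo _ h
    · exact hrest _ h
  have h6 : L[6]'(by omega) = e := by
    rw [List.getElem_append_right (by omega)]
    simp
  refine ⟨fun i => L[i.val]'(by omega), ⟨fun i j hij => ?_, o, ho, hin, ?_⟩, hin, fun i hi => ?_, h6⟩
  · exact Fin.ext ((List.Nodup.getElem_inj_iff hnd).mp hij)
  · simpa [h6] using he
  · show L[i]'(by omega) = l[i]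
    rw [List.getElem_append_left (by simp; omega), List.getElem_append_left hi]

theorem exists_not_mem {o : Finset GolayPt} (ho : o ∈ octads) : ∃ e, e ∉ o := by
  by_contra! h
  have := Finset.eq_univ_iff_forall.mpr h
  have h8 := ho.2
  rw [this, Finset.card_univ] at h8
  exact absurd h8 (by decide)

theorem map_octad_of_frame {o : Finset GolayPt} (ho : o ∈ octads) {y : Fin 7 → GolayPt}
    (hy : IsFrame y) (hin : ∀ i : Fin 7, i.val < 6 → y i ∈ o) :
    ∃ g ∈ M24, g • pts octad0 = o ∧ ∀ i, g (base i) = y i := by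
  obtain ⟨g, hg, hgy⟩ := exists_frame_map isFrame_base hy
  refine ⟨g, hg, octad_eq_of_five (smul_mem_octads hg octad0_mem) ho ?_, hgy⟩
  calc 5 = ((Finset.univ.filter fun i : Fin 7 => i.val < 5).image y).card := by
        rw [Finset.card_image_of_injective _ hy.1]; decide
    _ ≤ _ := Finset.card_le_card fun p hp => by
        simp only [Finset.mem_image, Finset.mem_filter, Finset.mem_univ, true_and] at hp
        obtain ⟨i, hi, rfl⟩ := hp
        refine Finset.mem_inter.mpr ⟨?_, hin i (by omega)⟩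
        rw [← hgy i, apply_mem_smul_iff]
        exact (by decide +kernel : ∀ j : Fin 7, j.val < 5 → base j ∈ pts octad0) i hi

theorem exists_map_octad_pair_in {o : Finset GolayPt} (ho : o ∈ octads) {p q : GolayPt}
    (hp : p ∈ o) (hq : q ∈ o) (hpq : p ≠ q) :
    ∃ g ∈ M24, g • pts octad0 = o ∧ g (pt 23) = p ∧ g (pt 0) = q := by
  obtain ⟨e, he⟩ := exists_not_mem ho
  obtain ⟨y, hy, hin, hval, -⟩ := exists_frame_of_octad ho (l := [p, q]) (by simp [hpq]) (by simp)
    (by simp [hp, hq]) he
  obtain ⟨g, hg, hgo, hgy⟩ := map_octad_of_frame ho hy hin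
  exact ⟨g, hg, hgo, (hgy 0).trans (hval 0 (by simp)), (hgy 1).trans (hval 1 (by simp))⟩

theorem exists_map_octad_in_out {o : Finset GolayPt} (ho : o ∈ octads) {p e : GolayPt}
    (hp : p ∈ o) (he : e ∉ o) :
    ∃ g ∈ M24, g • pts octad0 = o ∧ g (pt 23) = p ∧ g (pt 4) = e := by
  obtain ⟨y, hy, hin, hval, h6⟩ := exists_frame_of_octad ho (l := [p]) (by simp) (by simp)
    (by simp [hp]) he
  obtain ⟨g, hg, hgo, hgy⟩ := map_octad_of_frame ho hy hin
  exact ⟨g, hg, hgo, (hgy 0).trans (hval 0 (by simp)), (hgy 6).trans h6⟩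

theorem exists_map_octad_point_in {o : Finset GolayPt} (ho : o ∈ octads) {p : GolayPt}
    (hp : p ∈ o) : ∃ g ∈ M24, g • pts octad0 = o ∧ g (pt 23) = p := by
  obtain ⟨e, he⟩ := exists_not_mem ho
  obtain ⟨g, hg, hgo, hgp, -⟩ := exists_map_octad_in_out ho hp he
  exact ⟨g, hg, hgo, hgp⟩

theorem exists_map_octad_point_out {o : Finset GolayPt} (ho : o ∈ octads) {e : GolayPt}
    (he : e ∉ o) : ∃ g ∈ M24, g • pts octad0 = o ∧ g (pt 4) = e := by
  obtain ⟨p, hp⟩ := Finset.card_pos.mp (show 0 < o.card by rw [ho.2]; norm_num)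
  obtain ⟨g, hg, hgo, -, hge⟩ := exists_map_octad_in_out ho hp he
  exact ⟨g, hg, hgo, hge⟩

/-- An orbit statement for `Fix S` moved along `t`. -/
theorem exists_map_of_standard {S : List ℕ} {t : Equiv.Perm GolayPt} (ht : t ∈ M24)
    {a b : Finset GolayPt} (h : ∃ g ∈ Fix S, g • (t⁻¹ • a) = t⁻¹ • b) :
    ∃ g ∈ M24, (∀ m ∈ S, g • (t • pts m) = t • pts m) ∧ g • a = b := by
  obtain ⟨g, hg, hgab⟩ := h
  refine ⟨t * g * t⁻¹, mul_mem (mul_mem ht hg.1) (inv_mem ht), fun m hm => ?_, ?_⟩
  · rw [mul_smul, inv_smul_smul, mul_smul, hg.2 m hm]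
  · rw [mul_smul, mul_smul, hgab, smul_inv_smul]

theorem smul_pts_single {t : Equiv.Perm GolayPt} {i : ℕ} (hi : i < 24) {p : GolayPt}
    (h : t (pt i) = p) : t • pts (1 <<< i) = {p} := by
  rw [pts_single hi, smul_single_iff, h]

theorem apply_eq_of_smul_single {g : Equiv.Perm GolayPt} {p : GolayPt}
    (h : g • ({p} : Finset GolayPt) = {p}) : g p = p := smul_single_iff.mp h

theorem mem_pts_iff {m : ℕ} {i : ℕ} (hi : i < 24) : pt i ∈ pts m ↔ m.testBit i = true := by
  rw [mem_pts, idx_pt hi]

theorem card_inter_pts (a b : ℕ) : (pts a ∩ pts b).card = popcount (a &&& b) := by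
  rw [← pts_and, card_pts]

theorem popcount_and_maskOf {a : ℕ} (s : Finset GolayPt) :
    popcount (a &&& maskOf s) = (pts a ∩ s).card := by
  rw [← card_inter_pts, pts_maskOf]

theorem testBit_maskOf {i : ℕ} (hi : i < 24) (s : Finset GolayPt) :
    (maskOf s).testBit i = true ↔ pt i ∈ s := by
  rw [← mem_pts_iff hi, pts_maskOf]

end Cfsg.Agent.GolayOrbits
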