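/-
Elements of the two-point stabiliser of orders eleven and five, an element normalising the second, a
word in them of order seven, and a rigidity certificate. Produced by a search program, checked by
the kernel where used.
-/
import Cfsg.Agent.EqLemmas

set_option autoImplicit false

namespace Cfsg.Agent.GolayOrbits

/-- An element of order eleven. -/
def elem11 : ℕ := 0xb9e4d615e1a2164aa473740ca15a20

/-- An element of order five normalising the first. -/
def elem5 : ℕ := 0xba1f14d5b22d96730dd35520c20820

/-- An element squaring the second by conjugation. -/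
def elemInv : ℕ := 0xbbe71ad96974a8468cb03990a60440

/-- The powers of the second. -/
def pow5List : List ℕ :=
  [0xbdab49ca307b9ac5a928398a418820,
   0xba1f14d5b22d96730dd35520c20820,
   0xbccad73d75820caa12c91c64760820,
   0xba60bb14cf94e838b10e236aa38820,
   0xbba4644285aa62469e7662de350820]

/-- A word of order seven. -/
def wordSeven : List ℕ :=
  [0, 0, 2]

/-- Two points and an orbit of the first. -/
def fixed11 : ℕ := 0xb7a863

/-- A rigidity certificate. -/
def steps11 : List (ℕ × List ℕ) :=
  [(2, [0xd4b004, 0x13e005]),
   (3, [0xa96009, 0x27c00a, 0xe0900b]),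
   (4, [0x9b3010, 0xd2c012]),
   (7, [0xd98081, 0x572082, 0x907083]),
   (8, [0x3da100, 0xb30103]),
   (9, [0xbc1201, 0x32b202, 0x68a205]),
   (10, [0xb1d400, 0x768401]),
   (12, [0xc75001, 0xd4b004, 0x9b3010]),
   (14, [0xc75001, 0x13e005]),
   (19, [0x49f002, 0x8ea003]),
   (22, [0xc75001])]

end Cfsg.Agent.GolayOrbits
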