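/-
The two-point stabiliser in `M24` has no subgroups of order 7920 or 2112.

Main results: `card_normalizer_modEq`, `normalizer_le_of_card`, `not_card_7920_2112`.
-/
import Cfsg.Agent.Lib.GolayOrbits.M22IndexData
import Cfsg.Agent.Lib.GolayOrbits.M11Invol.Basic
import Cfsg.Agent.Lib.Golay.Mathieu

set_option autoImplicit false
open scoped Pointwise
open Cfsg Cfsg.Agent.Golay MulAction
open Subgroup (zpowers)

namespace Cfsg.Agent.GolayOrbits

section Abstract

variable {G : Type*} [Group G] [Finite G] {p : ℕ} [Fact p.Prime]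

/-- The Sylow subgroup generated by an element of prime order. -/
theorem exists_sylow_zpowers {u : G} (hu : orderOf u = p) (hp2 : ¬ p ^ 2 ∣ Nat.card G) :
    ∃ P : Sylow p G, (P : Subgroup G) = zpowers u := by
  obtain ⟨P, hP⟩ := IsPGroup.exists_le_sylow
    (IsPGroup.of_card (G := zpowers u) (p := p) (n := 1) (by rw [Nat.card_zpowers, hu, pow_one]))
  refine ⟨P, (Subgroup.eq_of_le_of_card_ge hP ?_).symm⟩
  rw [card_sylow_prime (hu ▸ orderOf_dvd_natCard u) hp2 P, Nat.card_zpowers, hu]

/-- A subgroup containing `u` contains the normaliser of `zpowers u`, when the congruence allows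
no proper subgroup of the normaliser. -/
theorem normalizer_le_of_card {H : Subgroup G} {u : G} (huH : u ∈ H) (hu : orderOf u = p)
    (hp2 : ¬ p ^ 2 ∣ Nat.card H) {j : ℕ}
    (hN : Nat.card (Subgroup.normalizer (zpowers u : Set G)) = p * j)
    (huniq : ∀ i, i ∣ j → (Nat.card H / p) % p = i % p → i = j) :
    Subgroup.normalizer (zpowers u : Set G) ≤ H := by
  have hu' : orderOf (⟨u, huH⟩ : H) = p := by rw [← Subgroup.orderOf_coe]; exact hu
  obtain ⟨P, hP⟩ := exists_sylow_zpowers hu' hp2
  obtain ⟨i, hi, hmod⟩ := normalizer_card_split (hu' ▸ orderOf_dvd_natCard _) hp2 P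
  let N := Subgroup.normalizer (zpowers u : Set G)
  have hsub : zpowers u ≤ H := Subgroup.zpowers_le.mpr huH
  have hiff : ∀ x : H,
      x ∈ Subgroup.normalizer ((P : Subgroup H) : Set H) ↔ (x : G) ∈ N := by
    have hmem : ∀ y : H, y ∈ (P : Subgroup H) ↔ (y : G) ∈ zpowers u := fun y => by
      rw [hP, Subgroup.mem_zpowers_iff, Subgroup.mem_zpowers_iff]
      exact exists_congr fun k => ⟨fun h => by rw [← h]; simp, fun h => Subtype.ext (by simp [h])⟩
    intro x
    rw [Subgroup.mem_normalizer_iff, Subgroup.mem_normalizer_iff]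
    constructor
    · intro h y
      constructor
      · intro hy
        have := (h ⟨y, hsub hy⟩).mp ((hmem _).mpr hy)
        simpa [hmem] using this
      · intro hy
        have hyH : y ∈ H := by
          have := mul_mem (mul_mem (inv_mem x.2) (hsub hy)) x.2
          simpa [mul_assoc] using this
        have := (h ⟨y, hyH⟩).mpr ((hmem _).mpr (by simpa using hy))
        exact (hmem _).mp this
    · intro h y
      rw [hmem, hmem]
      simpa using h y
  have hcard : Nat.card ↥(H ⊓ N) = p * i := by
    rw [← hi]
    exact Nat.card_congr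
      ⟨fun x => ⟨⟨x, x.2.1⟩, (hiff _).mpr x.2.2⟩, fun x => ⟨x.1, x.1.2, (hiff _).mp x.2⟩,
        fun x => rfl, fun x => rfl⟩
  have hdvd : p * i ∣ p * j := by
    rw [← hN, ← hcard]
    exact Subgroup.card_dvd_of_le inf_le_right
  obtain rfl := huniq i ((Nat.mul_dvd_mul_iff_left (Fact.out : p.Prime).pos).mp hdvd) hmod
  exact inf_eq_right.mp (Subgroup.eq_of_le_of_card_ge inf_le_right (by rw [hcard, hN]))

end Abstract

/-- The two-point stabiliser. -/
noncomputable def M22Stab : Subgroup (Equiv.Perm GolayPt) :=
  M24 ⊓ stabilizer (Equiv.Perm GolayPt) (pt 23) ⊓ stabilizer (Equiv.Perm GolayPt) (pt 0)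

theorem natCard_M22Stab : Nat.card M22Stab = 443520 := natCard_m22 (by decide +kernel)

theorem elems_spec : (isAut elem11 && isAut elem5 && isAut elemInv &&
    ([elem11, elem5, elemInv].all fun d => fn d 23 == 23 && fn d 0 == 0) &&
    fn elem5 1 == 1 && fn elem5 2 == 2 &&
    (List.range 11).all (fun i =>
      ((List.range i).foldl (fun a _ => fn elem11 a) 1 == 1) == (i == 0)) &&
    (List.range 24).all (fun q => (List.range 11).foldl (fun a _ => fn elem11 a) q == q) &&
    (List.range 24).all (fun q => (List.range 5).foldl (fun a _ => fn elem5 a) q == q) &&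
    (fn elem5 5 != 5) && compEq elem5 elem11
      ((List.range 24).foldr (fun i acc =>
        ((List.range 4).foldl (fun a _ => fn elem11 a) i) <<< (5 * i) ||| acc) 0) elem5 &&
    compEq elemInv elem5 (pow5List.getD 2 0) elemInv &&
    compIs elem5 elem5 (pow5List.getD 2 0) &&
    pow5List.all validPerm) = true := by
  decide +kernel

theorem pow5List_spec : ((List.range 5).all fun k => (List.range 24).all fun q =>
    (List.range k).foldl (fun a _ => fn elem5 a) q == fn (pow5List.getD k 0) q) = true := by
  decide +kernel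

/-- Every element fixing the first four base points and commuting with the element of order five
is one of its powers. -/
theorem centralizer_check : ((trans4.all fun a => trans5.all fun b => trans6.all fun c =>
    !((List.range 24).all fun i =>
        fn elem5 (fn a (fn b (fn c i))) == fn a (fn b (fn c (fn elem5 i)))) ||
      pow5List.any fun e => (List.range 24).all fun i =>
        fn a (fn b (fn c i)) == fn e i)) = true := by
  decide +kernel

theorem steps11_check : checkSteps steps11 fixed11 = true := by decide +kernel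

theorem word_check : ((List.range 24).all (fun q =>
    (List.range 7).foldl (fun a _ => fn elem11 (fn elem11 (fn elemInv a))) q == q) &&
    fn elem11 (fn elem11 (fn elemInv 1)) != 1) = true := by
  decide +kernel

theorem foldl_eq_pow {d : ℕ} (hd : validPerm d = true) (n : ℕ) (p : GolayPt) :
    idx ((toPerm d ^ n) p) = (List.range n).foldl (fun a _ => fn d a) (idx p) := by
  induction n with
  | zero => simp
  | succ n ih =>
    rw [pow_succ', Equiv.Perm.mul_apply, idx_toPerm hd, ih, List.range_succ, List.foldl_append]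
    rfl

theorem not_card_7920_2112 {H : Subgroup (Equiv.Perm GolayPt)} (hH : H ≤ M22Stab) :
    Nat.card H ≠ 7920 ∧ Nat.card H ≠ 2112 := by
  have h := elems_spec
  simp only [Bool.and_eq_true, List.all_eq_true, beq_iff_eq, List.mem_range, bne_iff_ne, ne_eq,
    List.forall_mem_cons, List.not_mem_nil, IsEmpty.forall_iff, implies_true, and_true] at h
  obtain ⟨⟨⟨⟨⟨⟨⟨⟨⟨⟨⟨⟨⟨hsA, hrA⟩, hvA⟩, ⟨hs23, hs0⟩, ⟨hr23, hr0⟩, hv23, hv0⟩,
    hr1⟩, hr2⟩, hper⟩, hs11⟩, hr5⟩, hrne⟩, hrs⟩, hvr⟩, hr2sq⟩, hpow⟩ := h
  have hsv := validPerm_of_isAut hsA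
  have hrv := validPerm_of_isAut hrA
  have hvv := validPerm_of_isAut hvA
  have hfix : ∀ {d i : ℕ}, validPerm d = true → i < 24 → fn d i = i → toPerm d (pt i) = pt i :=
    fun {d i} hd hi h => by rw [toPerm_pt hd hi, h]
  let s : M22Stab := ⟨toPerm elem11, ⟨toPerm_mem_M24 hsA, hfix hsv (by norm_num) hs23⟩,
    hfix hsv (by norm_num) hs0⟩
  let r : M22Stab := ⟨toPerm elem5, ⟨toPerm_mem_M24 hrA, hfix hrv (by norm_num) hr23⟩,
    hfix hrv (by norm_num) hr0⟩
  let v : M22Stab := ⟨toPerm elemInv, ⟨toPerm_mem_M24 hvA, hfix hvv (by norm_num) hv23⟩,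
    hfix hvv (by norm_num) hv0⟩
  have : Fact (Nat.Prime 11) := ⟨by norm_num⟩
  have : Fact (Nat.Prime 5) := ⟨by norm_num⟩
  have hs_ord : orderOf s = 11 := by
    refine orderOf_eq_prime (Subtype.ext (Equiv.ext fun p => idx_injective ?_)) fun he => ?_
    · show idx ((toPerm elem11 ^ 11) p) = idx p
      rw [foldl_eq_pow hsv, hs11 _ (idx_lt p)]
    · have h1 : toPerm elem11 (pt 1) = pt 1 := by
        have := congrArg (fun g : M22Stab => (g : Equiv.Perm GolayPt) (pt 1)) he
        exact this
      have h1' := hper 1 (by norm_num)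
      simp only [List.range_one, List.foldl_cons, List.foldl_nil] at h1'
      have := congrArg idx h1
      rw [idx_toPerm hsv, idx_pt (by norm_num)] at this
      rw [this] at h1'
      simp at h1'
  have hr_ord : orderOf r = 5 := by
    refine orderOf_eq_prime (Subtype.ext (Equiv.ext fun p => idx_injective ?_)) fun he => hrne ?_
    · show idx ((toPerm elem5 ^ 5) p) = idx p
      rw [foldl_eq_pow hrv, hr5 _ (idx_lt p)]
    · have := congrArg (fun g : M22Stab => idx ((g : Equiv.Perm GolayPt) (pt 5))) he
      simpa [r, idx_toPerm hrv, idx_pt] using this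
  have hG : Nat.card M22Stab = 443520 := natCard_M22Stab
  have hp11 : ¬ 11 ^ 2 ∣ Nat.card M22Stab := by rw [hG]; norm_num
  have hp5 : ¬ 5 ^ 2 ∣ Nat.card M22Stab := by rw [hG]; norm_num
  -- the normaliser of the element of order eleven
  obtain ⟨P, hP⟩ := exists_sylow_zpowers hs_ord hp11
  have hCs : Nat.card (Subgroup.centralizer (P : Set M22Stab)) ≤ 22 := by
    let X : Finset GolayPt := (Finset.univ.erase (pt 23)).erase (pt 0)
    have hX : X.card = 22 := by decide +kernel
    let f : Subgroup.centralizer (P : Set M22Stab) → X := fun g =>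
      ⟨((g : M22Stab) : Equiv.Perm GolayPt) (pt 1), by
        have h23 : ((g : M22Stab) : Equiv.Perm GolayPt) (pt 23) = pt 23 := (g : M22Stab).2.1.2
        have h0 : ((g : M22Stab) : Equiv.Perm GolayPt) (pt 0) = pt 0 := (g : M22Stab).2.2
        refine Finset.mem_erase.mpr ⟨fun he => ?_, Finset.mem_erase.mpr ⟨fun he => ?_,
          Finset.mem_univ _⟩⟩
        · exact (by decide +kernel : pt 1 ≠ pt 0)
            (((g : M22Stab) : Equiv.Perm GolayPt).injective (he.trans h0.symm))
        · exact (by decide +kernel : pt 1 ≠ pt 23)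
            (((g : M22Stab) : Equiv.Perm GolayPt).injective (he.trans h23.symm))⟩
    have hf : Function.Injective f := by
      intro a b hab
      let c := a⁻¹ * b
      have hc1 : ((c : M22Stab) : Equiv.Perm GolayPt) (pt 1) = pt 1 := by
        have := congrArg Subtype.val hab
        simp only [f] at this
        simp [c, ← this]
      have hcs : (c : M22Stab) * s = s * (c : M22Stab) :=
        (Subgroup.mem_centralizer_iff.mp c.2 s (show s ∈ (P : Subgroup M22Stab) by rw [hP]; exact Subgroup.mem_zpowers s)).symm
      have horb : ∀ k : ℕ, ((c : M22Stab) : Equiv.Perm GolayPt) ((toPerm elem11 ^ k) (pt 1)) =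
          (toPerm elem11 ^ k) (pt 1) := by
        intro k
        have hk : (c : M22Stab) * s ^ k = s ^ k * (c : M22Stab) := Commute.pow_right hcs k
        have := congrArg (fun g : M22Stab => (g : Equiv.Perm GolayPt) (pt 1)) hk
        simpa [s, hc1] using this
      have hone : ((c : M22Stab) : Equiv.Perm GolayPt) = 1 := by
        refine fixes_of_steps (c : M22Stab).2.1.1 steps11 fixed11 steps11_check fun p hp => ?_
        rcases (by decide +kernel : ∀ q : GolayPt, q ∈ pts fixed11 → q = pt 23 ∨ q = pt 0 ∨
            ∃ k ∈ List.range 11, idx q = (List.range k).foldl (fun a _ => fn elem11 a) (idx (pt 1)))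
            p hp with rfl | rfl | ⟨k, -, hk⟩
        · exact (c : M22Stab).2.1.2
        · exact (c : M22Stab).2.2
        · rw [show p = (toPerm elem11 ^ k) (pt 1) from
            idx_injective (by rw [foldl_eq_pow hsv, hk])]
          exact horb k
      exact inv_mul_eq_one.mp (Subtype.ext (Subtype.ext hone) : c = 1)
    have := Nat.card_le_card_of_injective f hf
    rwa [Nat.card_eq_fintype_card (α := X), Fintype.card_coe, hX] at this
  obtain ⟨j, hj, hjmod⟩ := normalizer_card_split (hs_ord ▸ orderOf_dvd_natCard s) hp11 P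
  have hj5 : j = 5 := by
    have hdvd := card_normalizer_dvd (hs_ord ▸ orderOf_dvd_natCard s) hp11 P
    have hle : (P : Subgroup M22Stab) ≤ Subgroup.centralizer (P : Set M22Stab) := by
      intro x hx
      rw [Subgroup.mem_centralizer_iff]
      intro y hy
      rw [hP] at hx
      replace hy : y ∈ (P : Subgroup M22Stab) := hy
      rw [hP] at hy
      obtain ⟨a, rfl⟩ := Subgroup.mem_zpowers_iff.mp hx
      obtain ⟨b, rfl⟩ := Subgroup.mem_zpowers_iff.mp hy
      rw [← zpow_add, ← zpow_add, add_comm]
    obtain ⟨c, hc⟩ := Subgroup.card_dvd_of_le hle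
    rw [card_sylow_prime (hs_ord ▸ orderOf_dvd_natCard s) hp11 P] at hc
    rw [hj, hc, mul_assoc] at hdvd
    have hdvd' : j ∣ c * 10 := (Nat.mul_dvd_mul_iff_left (by norm_num)).mp hdvd
    rw [hG] at hjmod
    have hc0 : 0 < c := by
      have := (Nat.card_pos : 0 < Nat.card (Subgroup.centralizer (P : Set M22Stab)))
      omega
    have hc2 : c < 3 := by omega
    have hj21 : j < 21 := by
      have := Nat.le_of_dvd (show 0 < c * 10 by omega) hdvd'
      omega
    exact (by decide +kernel : ∀ c < 3, ∀ j < 21, 0 < c → j ∣ c * 10 →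
      443520 / 11 % 11 = j % 11 → j = 5) c hc2 j hj21 hc0 hdvd' hjmod
  rw [show (P : Set M22Stab) = (zpowers s : Set M22Stab) from congrArg SetLike.coe hP,
    hj5] at hj
  -- the normaliser of the element of order five
  obtain ⟨R, hR⟩ := exists_sylow_zpowers hr_ord hp5
  have hCr : Nat.card (Subgroup.centralizer (R : Set M22Stab)) ≤ 10 := by
    let C := Subgroup.centralizer (R : Set M22Stab)
    have hcomm : ∀ g : C, (g : M22Stab) * r = r * (g : M22Stab) := fun g =>
      (Subgroup.mem_centralizer_iff.mp g.2 r (show r ∈ (R : Subgroup M22Stab) by rw [hR]; exact Subgroup.mem_zpowers r)).symm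
    have hab : ∀ g : C, ((g : M22Stab) : Equiv.Perm GolayPt) (pt 1) ∈
        ({pt 1, pt 2} : Finset GolayPt) := by
      intro g
      let q := ((g : M22Stab) : Equiv.Perm GolayPt) (pt 1)
      have hq : toPerm elem5 q = q := by
        have := congrArg (fun x : M22Stab => (x : Equiv.Perm GolayPt) (pt 1)) (hcomm g)
        simpa [r, q, hfix hrv (by norm_num) hr1] using this.symm
      have h23 : q ≠ pt 23 := fun he => (by decide +kernel : pt 1 ≠ pt 23)
        (((g : M22Stab) : Equiv.Perm GolayPt).injective (he.trans (g : M22Stab).2.1.2.symm))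
      have h0 : q ≠ pt 0 := fun he => (by decide +kernel : pt 1 ≠ pt 0)
        (((g : M22Stab) : Equiv.Perm GolayPt).injective (he.trans (g : M22Stab).2.2.symm))
      have key : ∀ y : GolayPt, fn elem5 (idx y) = idx y →
          y = pt 23 ∨ y = pt 0 ∨ y = pt 1 ∨ y = pt 2 := by decide +kernel
      have := congrArg idx hq
      rw [idx_toPerm hrv] at this
      rcases key q this with h | h | h | h
      · exact absurd h h23
      · exact absurd h h0
      · exact Finset.mem_insert.mpr (Or.inl h)
      · exact Finset.mem_insert_of_mem (Finset.mem_singleton.mpr h)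
    classical
    have := Fintype.ofFinite C
    let f : C → GolayPt := fun g => ((g : M22Stab) : Equiv.Perm GolayPt) (pt 1)
    have hfib : ∀ b ∈ ({pt 1, pt 2} : Finset GolayPt),
        ((Finset.univ : Finset C).filter fun g => f g = b).card ≤ 5 := by
      intro b _
      by_cases hne : ((Finset.univ : Finset C).filter fun g => f g = b).Nonempty
      swap
      · rw [Finset.not_nonempty_iff_eq_empty.mp hne]; simp
      obtain ⟨g₀, hg₀⟩ := hne
      let T : Finset (Equiv.Perm GolayPt) := (pow5List.map Golay.toPerm).toFinset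
      have hT : T.card ≤ 5 := le_trans (List.toFinset_card_le _) (by decide +kernel)
      refine le_trans (Finset.card_le_card_of_injOn
        (fun g => (((g₀⁻¹ * g : C) : M22Stab) : Equiv.Perm GolayPt)) (fun g hg => ?_) ?_) hT
      · let d := g₀⁻¹ * g
        simp only [Finset.coe_filter, Finset.mem_univ, true_and, Set.mem_ofPred_eq] at hg
        simp only [Finset.mem_filter, Finset.mem_univ, true_and] at hg₀
        have hd1 : ((d : M22Stab) : Equiv.Perm GolayPt) (pt 1) = pt 1 := by
          have e : ((g : M22Stab) : Equiv.Perm GolayPt) (pt 1) =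
              ((g₀ : M22Stab) : Equiv.Perm GolayPt) (pt 1) := hg.trans hg₀.symm
          simp [d, e]
        have hd2 : ((d : M22Stab) : Equiv.Perm GolayPt) (pt 2) = pt 2 := by
          let q := ((d : M22Stab) : Equiv.Perm GolayPt) (pt 2)
          have hq : toPerm elem5 q = q := by
            have := congrArg (fun x : M22Stab => (x : Equiv.Perm GolayPt) (pt 2)) (hcomm d)
            simpa [r, q, hfix hrv (by norm_num) hr2] using this.symm
          have key : ∀ y : GolayPt, fn elem5 (idx y) = idx y →
              y = pt 23 ∨ y = pt 0 ∨ y = pt 1 ∨ y = pt 2 := by decide +kernel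
          have hh := congrArg idx hq
          rw [idx_toPerm hrv] at hh
          rcases key q hh with h | h | h | h
          · exact absurd (((d : M22Stab) : Equiv.Perm GolayPt).injective
              (h.trans (d : M22Stab).2.1.2.symm)) (by decide +kernel)
          · exact absurd (((d : M22Stab) : Equiv.Perm GolayPt).injective
              (h.trans (d : M22Stab).2.2.symm)) (by decide +kernel)
          · exact absurd (((d : M22Stab) : Equiv.Perm GolayPt).injective (h.trans hd1.symm))
              (by decide +kernel)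
          · exact h
        have hchain : ((d : M22Stab) : Equiv.Perm GolayPt) ∈ chain 4 := by
          refine mem_chain.mpr ⟨(d : M22Stab).2.1.1, fun i hi => ?_⟩
          interval_cases i
          · exact (d : M22Stab).2.1.2
          · exact (d : M22Stab).2.2
          · exact hd1
          · exact hd2
        obtain ⟨a, ha, haA, h5⟩ := exists_transversal_mem (k := 4) (by norm_num) hchain
        obtain ⟨b', hb, hbA, h6⟩ := exists_transversal_mem (k := 5) (by norm_num) h5
        obtain ⟨c, hc, hcA, h7⟩ := exists_transversal_mem (k := 6) (by norm_num) h6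
        rw [chain_seven, Subgroup.mem_bot] at h7
        have hdeq : ((d : M22Stab) : Equiv.Perm GolayPt) = toPerm a * toPerm b' * toPerm c := by
          rw [inv_mul_eq_one] at h7
          rw [h7]; group
        have hav := validPerm_of_isAut haA
        have hbv := validPerm_of_isAut hbA
        have hcv := validPerm_of_isAut hcA
        have hk := List.all_eq_true.mp (List.all_eq_true.mp (List.all_eq_true.mp
          centralizer_check a ha) b' hb) c hc
        have hcm : ((List.range 24).all fun i =>
            fn elem5 (fn a (fn b' (fn c i))) == fn a (fn b' (fn c (fn elem5 i)))) = true := by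
          refine List.all_eq_true.mpr fun i hi => beq_iff_eq.mpr ?_
          rw [List.mem_range] at hi
          have := congrArg (fun x : M22Stab => idx ((x : Equiv.Perm GolayPt) (pt i))) (hcomm d)
          simp only [Subgroup.coe_mul, Equiv.Perm.mul_apply, hdeq, r, idx_toPerm hav,
            idx_toPerm hbv, idx_toPerm hcv, idx_toPerm hrv, idx_pt hi] at this
          exact this.symm
        rw [hcm, Bool.not_true, Bool.false_or, List.any_eq_true] at hk
        obtain ⟨e, he, hee⟩ := hk
        refine List.mem_toFinset.mpr (List.mem_map.mpr ⟨e, he, ?_⟩)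
        show toPerm e = ((d : M22Stab) : Equiv.Perm GolayPt)
        rw [hdeq]
        refine Equiv.ext fun p => idx_injective ?_
        simp only [Equiv.Perm.mul_apply, idx_toPerm hav, idx_toPerm hbv, idx_toPerm hcv,
          idx_toPerm (hpow e he)]
        exact (beq_iff_eq.mp (List.all_eq_true.mp hee _ (List.mem_range.mpr (idx_lt p)))).symm
      · intro a _ b' _ hab'
        exact mul_left_cancel (Subtype.ext (Subtype.ext hab') : g₀⁻¹ * a = g₀⁻¹ * b')
    have := Finset.card_le_mul_card_image_of_maps_to (f := f) (s := (Finset.univ : Finset C))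
      (t := ({pt 1, pt 2} : Finset GolayPt)) (fun g _ => hab g) 5 hfib
    rw [Finset.card_univ, ← Nat.card_eq_fintype_card,
      show ({pt 1, pt 2} : Finset GolayPt).card = 2 by decide +kernel] at this
    simpa using this
  obtain ⟨i, hi, himod⟩ := normalizer_card_split (hr_ord ▸ orderOf_dvd_natCard r) hp5 R
  have hi4 : i = 4 := by
    have hdvd := card_normalizer_dvd (hr_ord ▸ orderOf_dvd_natCard r) hp5 R
    have hle : (R : Subgroup M22Stab) ≤ Subgroup.centralizer (R : Set M22Stab) := by
      intro x hx
      rw [Subgroup.mem_centralizer_iff]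
      intro y hy
      rw [hR] at hx
      replace hy : y ∈ (R : Subgroup M22Stab) := hy
      rw [hR] at hy
      obtain ⟨a, rfl⟩ := Subgroup.mem_zpowers_iff.mp hx
      obtain ⟨b, rfl⟩ := Subgroup.mem_zpowers_iff.mp hy
      rw [← zpow_add, ← zpow_add, add_comm]
    obtain ⟨c, hc⟩ := Subgroup.card_dvd_of_le hle
    rw [card_sylow_prime (hr_ord ▸ orderOf_dvd_natCard r) hp5 R] at hc
    rw [hi, hc, mul_assoc] at hdvd
    have hdvd' : i ∣ c * 4 := (Nat.mul_dvd_mul_iff_left (by norm_num)).mp hdvd
    rw [hG] at himod
    have hc0 : 0 < c := by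
      have := (Nat.card_pos : 0 < Nat.card (Subgroup.centralizer (R : Set M22Stab)))
      omega
    have hc3 : c < 3 := by omega
    have hi9 : i < 9 := by
      have := Nat.le_of_dvd (show 0 < c * 4 by omega) hdvd'
      omega
    exact (by decide +kernel : ∀ c < 3, ∀ i < 9, 0 < c → i ∣ c * 4 →
      443520 / 5 % 5 = i % 5 → i = 4) c hc3 i hi9 hc0 hdvd' himod
  rw [show (R : Set M22Stab) = (zpowers r : Set M22Stab) from congrArg SetLike.coe hR,
    hi4] at hi
  -- elements in the normalisers
  have hrN : r ∈ Subgroup.normalizer (zpowers s : Set M22Stab) := by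
    have hconj : r * s = s ^ 4 * r := by
      refine Subtype.ext (Equiv.ext fun p => idx_injective ?_)
      have := beq_iff_eq.mp (List.all_eq_true.mp hrs (idx p) (List.mem_range.mpr (idx_lt p)))
      show idx (toPerm elem5 (toPerm elem11 p)) = idx ((toPerm elem11 ^ 4) (toPerm elem5 p))
      rw [foldl_eq_pow hsv, idx_toPerm hrv, idx_toPerm hrv, idx_toPerm hsv, this]
      exact (by decide +kernel : ∀ q < 24, fn ((List.range 24).foldr (fun i acc =>
        ((List.range 4).foldl (fun a _ => fn elem11 a) i) <<< (5 * i) ||| acc) 0) q =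
          (List.range 4).foldl (fun a _ => fn elem11 a) q) _ (fn_lt_of_valid hrv (idx_lt p))
    refine Subgroup.mem_normalizer_iff.mpr fun y => ?_
    have hmap : ∀ n : ℤ, r * s ^ n * r⁻¹ = (s ^ 4) ^ n := fun n => by
      have e : MulAut.conj r s = s ^ 4 := by
        rw [MulAut.conj_apply, hconj]; group
      rw [← MulAut.conj_apply, map_zpow, e]
    constructor
    · intro hy
      obtain ⟨n, rfl⟩ := Subgroup.mem_zpowers_iff.mp hy
      exact ⟨4 * n, by show s ^ (4 * n) = r * s ^ n * r⁻¹; rw [hmap, zpow_mul]; norm_cast⟩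
    · intro hy
      obtain ⟨n, hn⟩ := Subgroup.mem_zpowers_iff.mp hy
      refine ⟨3 * n, ?_⟩
      show s ^ (3 * n) = y
      have e : MulAut.conj r (s ^ (3 * n)) = MulAut.conj r y := by
        rw [MulAut.conj_apply, hmap, MulAut.conj_apply, ← hn, ← zpow_natCast s 4, ← zpow_mul]
        rw [← sub_eq_zero.mp (sub_self (n : ℤ))]
        refine zpow_eq_zpow_iff_modEq.mpr ?_
        rw [hs_ord, Int.modEq_iff_dvd]
        exact ⟨-n, by push_cast; ring⟩
      exact (MulAut.conj r).injective e
  have hvN : v ∈ Subgroup.normalizer (zpowers r : Set M22Stab) := by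
    have hconj : v * r = r ^ 2 * v := by
      refine Subtype.ext ?_
      show toPerm elemInv * toPerm elem5 = toPerm elem5 ^ 2 * toPerm elemInv
      have hp2' : validPerm (pow5List.getD 2 0) = true := hpow _ (by
        rw [List.getD_eq_getElem _ _ (show 2 < pow5List.length by decide +kernel)]
        exact List.getElem_mem _)
      rw [pow_two, toPerm_mul hrv hrv hp2' hr2sq]
      exact (toPerm_compEq hvv hrv hp2' hvv).mp hvr
    refine Subgroup.mem_normalizer_iff.mpr fun y => ?_
    have hmap : ∀ n : ℤ, v * r ^ n * v⁻¹ = (r ^ 2) ^ n := fun n => by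
      have e : MulAut.conj v r = r ^ 2 := by
        rw [MulAut.conj_apply, hconj]; group
      rw [← MulAut.conj_apply, map_zpow, e]
    constructor
    · intro hy
      obtain ⟨n, rfl⟩ := Subgroup.mem_zpowers_iff.mp hy
      exact ⟨2 * n, by show r ^ (2 * n) = v * r ^ n * v⁻¹; rw [hmap, zpow_mul]; norm_cast⟩
    · intro hy
      obtain ⟨n, hn⟩ := Subgroup.mem_zpowers_iff.mp hy
      refine ⟨3 * n, ?_⟩
      show r ^ (3 * n) = y
      have e : MulAut.conj v (r ^ (3 * n)) = MulAut.conj v y := by
        rw [MulAut.conj_apply, hmap, MulAut.conj_apply, ← hn, ← zpow_natCast r 2, ← zpow_mul]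
        refine zpow_eq_zpow_iff_modEq.mpr ?_
        rw [hr_ord, Int.modEq_iff_dvd]
        exact ⟨-n, by push_cast; ring⟩
      exact (MulAut.conj v).injective e
  -- the contradiction
  suffices key : ∀ L : Subgroup M22Stab, Nat.card L ≠ 7920 ∧ Nat.card L ≠ 2112 by
    have he := Nat.card_congr (Subgroup.subgroupOfEquivOfLe hH).toEquiv
    rw [← he]
    exact key _
  intro L
  by_contra hcon
  rw [not_and_or, not_ne_iff, not_ne_iff] at hcon
  have h11 : 11 ∣ Nat.card L := by rcases hcon with e | e <;> rw [e] <;> norm_num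
  have h11' : ¬ 11 ^ 2 ∣ Nat.card L := by rcases hcon with e | e <;> rw [e] <;> norm_num
  obtain ⟨u, hu⟩ := exists_prime_orderOf_dvd_card' 11 h11
  have huG : orderOf (u : M22Stab) = 11 := by rw [Subgroup.orderOf_coe]; exact hu
  obtain ⟨U, hU⟩ := exists_sylow_zpowers huG hp11
  obtain ⟨g, hg⟩ := exists_smul_eq M22Stab U P
  -- replace `L` by a conjugate containing `s`
  let L' : Subgroup M22Stab := L.map (MulAut.conj g).toMonoidHom
  have hL' : Nat.card L' = Nat.card L :=
    Subgroup.card_map_of_injective (MulAut.conj g).injective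
  have hsL : s ∈ L' := by
    have h1 : s ∈ ((g • U : Sylow 11 M22Stab) : Subgroup M22Stab) := by
      rw [hg, hP]; exact Subgroup.mem_zpowers s
    rw [Sylow.coe_subgroup_smul] at h1
    obtain ⟨x, hx, hxe⟩ := h1
    refine ⟨x, ?_, hxe⟩
    have hx' : x ∈ (U : Subgroup M22Stab) := hx
    rw [hU] at hx'
    exact Subgroup.zpowers_le.mpr u.2 hx'
  have hN11 := normalizer_le_of_card (H := L') hsL hs_ord (by rw [hL']; exact h11') hj (by
    intro k hk hmod
    rw [hL'] at hmod
    have hk5 : k ≤ 5 := Nat.le_of_dvd (by norm_num) hk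
    rcases hcon with e | e <;> rw [e] at hmod <;> interval_cases k <;>
      first | rfl | omega | exact absurd hk (by norm_num))
  have hrL : r ∈ L' := hN11 hrN
  rcases hcon with e | e
  · have hN5 := normalizer_le_of_card (H := L') hrL hr_ord (by rw [hL', e]; norm_num) hi (by
      intro k hk hmod
      rw [hL', e] at hmod
      have hk4 : k ≤ 4 := Nat.le_of_dvd (by norm_num) hk
      interval_cases k <;> first | rfl | omega | exact absurd hk (by norm_num))
    have hvL : v ∈ L' := hN5 hvN
    let w : M22Stab := s * (s * v)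
    have hw : w ∈ L' := mul_mem hsL (mul_mem hsL hvL)
    have : Fact (Nat.Prime 7) := ⟨by norm_num⟩
    have hwo : orderOf w = 7 := by
      have hc := word_check
      simp only [Bool.and_eq_true, List.all_eq_true, beq_iff_eq, List.mem_range, bne_iff_ne,
        ne_eq] at hc
      have happ : ∀ p, idx ((w : Equiv.Perm GolayPt) p) =
          fn elem11 (fn elem11 (fn elemInv (idx p))) := fun p => by
        simp [w, s, v, idx_toPerm hsv, idx_toPerm hvv]
      refine orderOf_eq_prime (Subtype.ext (Equiv.ext fun p => idx_injective ?_)) fun he => hc.2 ?_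
      · have hp : ∀ n, idx (((w : Equiv.Perm GolayPt) ^ n) p) =
            (List.range n).foldl (fun a _ => fn elem11 (fn elem11 (fn elemInv a))) (idx p) := by
          intro n
          induction n with
          | zero => simp
          | succ n ih =>
            rw [pow_succ', Equiv.Perm.mul_apply, happ, ih, List.range_succ, List.foldl_append]
            rfl
        show idx (((w : Equiv.Perm GolayPt) ^ 7) p) = idx p
        rw [hp, hc.1 _ (idx_lt p)]
      · have := happ (pt 1)
        rw [he, idx_pt (by norm_num)] at this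
        simpa [idx_pt] using this.symm
    have h7 : 7 ∣ Nat.card L' := by
      have hd := orderOf_dvd_natCard (⟨w, hw⟩ : L')
      rw [← Subgroup.orderOf_coe] at hd
      rw [← hwo]
      exact hd
    rw [hL', e] at h7
    norm_num at h7
  · have h5 : 5 ∣ Nat.card L' := by
      have hd := orderOf_dvd_natCard (⟨r, hrL⟩ : L')
      rw [← Subgroup.orderOf_coe] at hd
      rw [← hr_ord]
      exact hd
    rw [hL', e] at h5
    norm_num at h5

end Cfsg.Agent.GolayOrbits
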