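/-
Subgroups of index 253 of a point stabiliser in `M24` fix a pair of points or an octad through
the point.

Main results: `natCard_stab_pair`, `natCard_stab_octad`, `exists_fixed_of_card`.
-/
import Cfsg.Agent.Lib.GolayOrbits.Octad
import Cfsg.Agent.Lib.Golay.Mathieu

set_option autoImplicit false
open scoped Pointwise
open Cfsg Cfsg.Agent.Golay MulAction

namespace Cfsg.Agent.GolayOrbits

/-- The point stabiliser. -/
noncomputable def PtStab : Subgroup (Equiv.Perm GolayPt) :=
  M24 ⊓ stabilizer (Equiv.Perm GolayPt) (pt 23)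

theorem natCard_PtStab : Nat.card PtStab = 10200960 := natCard_m23 _

theorem natCard_stab_of_orbit (Q : Finset GolayPt → Prop) (s : Finset GolayPt) {n : ℕ} (hn : 0 < n)
    (hup : ∀ g ∈ PtStab, Q (g • s)) (hlow : ∀ z, Q z → ∃ g ∈ PtStab, g • s = z)
    (hQ : {z | Q z}.ncard = n) :
    Nat.card ↥(PtStab ⊓ stabilizer (Equiv.Perm GolayPt) s) = 10200960 / n := by
  have horb : orbit PtStab s = {z | Q z} := by
    ext z
    constructor
    · rintro ⟨g, rfl⟩
      exact hup g g.2
    · intro hz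
      obtain ⟨g, hg, rfl⟩ := hlow z hz
      exact ⟨⟨g, hg⟩, rfl⟩
  have hidx := index_stabilizer PtStab s
  rw [horb, hQ] at hidx
  have hst : stabilizer PtStab s =
      (PtStab ⊓ stabilizer (Equiv.Perm GolayPt) s).subgroupOf PtStab := by
    ext g
    exact ⟨fun h => ⟨g.2, h⟩, fun h => h.2⟩
  have h := (stabilizer PtStab s).index_mul_card
  rw [hidx, hst, Nat.card_congr (Subgroup.subgroupOfEquivOfLe
    (H := PtStab ⊓ stabilizer (Equiv.Perm GolayPt) s) inf_le_left).toEquiv, natCard_PtStab] at h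
  rw [← h, Nat.mul_div_cancel_left _ hn]

theorem apply_pt23 {g : Equiv.Perm GolayPt} (hg : g ∈ PtStab) : g (pt 23) = pt 23 := hg.2

theorem ncard_subsets (k : ℕ) :
    {z : Finset GolayPt | z.card = k ∧ pt 23 ∉ z}.ncard = Nat.choose 23 k := by
  have h : {z : Finset GolayPt | z.card = k ∧ pt 23 ∉ z} =
      ↑((Finset.univ.erase (pt 23)).powersetCard k) := by
    ext z
    simp only [Set.mem_ofPred_eq, Finset.mem_coe, Finset.mem_powersetCard, Finset.subset_iff,
      Finset.mem_erase, Finset.mem_univ, and_true]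
    exact ⟨fun ⟨h1, h2⟩ => ⟨fun x hx he => h2 (he ▸ hx), h1⟩,
      fun ⟨h1, h2⟩ => ⟨h2, fun hx => h1 hx rfl⟩⟩
  rw [h, Set.ncard_coe_finset, Finset.card_powersetCard,
    Finset.card_erase_of_mem (Finset.mem_univ _), Finset.card_univ]
  rfl

theorem subsets_smul {g : Equiv.Perm GolayPt} (hg : g ∈ PtStab) {k : ℕ} {z : Finset GolayPt}
    (hz : z.card = k ∧ pt 23 ∉ z) : (g • z).card = k ∧ pt 23 ∉ g • z := by
  refine ⟨by rw [Finset.card_smul_finset, hz.1], fun h => hz.2 ?_⟩
  rwa [← apply_pt23 hg, apply_mem_smul_iff] at h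

theorem natCard_stab_pair {z : Finset GolayPt} (h2 : z.card = 2) (hx : pt 23 ∉ z) :
    Nat.card ↥(PtStab ⊓ stabilizer (Equiv.Perm GolayPt) z) = 40320 := by
  rw [natCard_stab_of_orbit (fun w => w.card = 2 ∧ pt 23 ∉ w) z (n := 253) (by norm_num)
    (fun g hg => subsets_smul hg ⟨h2, hx⟩) ?_ ((ncard_subsets 2).trans (by decide +kernel))]
  rintro w ⟨hw2, hwx⟩
  obtain ⟨a, b, hab, rfl⟩ := Finset.card_eq_two.mp h2
  obtain ⟨c, d, hcd, rfl⟩ := Finset.card_eq_two.mp hw2
  simp only [Finset.mem_insert, Finset.mem_singleton, not_or] at hx hwx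
  obtain ⟨g, hg, g0, g1, g2⟩ := exists_map_three hx.1 hx.2 hab hwx.1 hwx.2 hcd
  exact ⟨g, ⟨hg, g0⟩, by
    rw [Finset.smul_finset_insert, Finset.smul_finset_singleton, Equiv.Perm.smul_def,
      Equiv.Perm.smul_def, g1, g2]⟩

theorem natCard_stab_triple {z : Finset GolayPt} (h3 : z.card = 3) (hx : pt 23 ∉ z) :
    Nat.card ↥(PtStab ⊓ stabilizer (Equiv.Perm GolayPt) z) = 5760 := by
  rw [natCard_stab_of_orbit (fun w => w.card = 3 ∧ pt 23 ∉ w) z (n := 1771) (by norm_num)
    (fun g hg => subsets_smul hg ⟨h3, hx⟩) ?_ ((ncard_subsets 3).trans (by decide +kernel))]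
  rintro w ⟨hw3, hwx⟩
  obtain ⟨a, b, c, hab, hac, hbc, rfl⟩ := Finset.card_eq_three.mp h3
  obtain ⟨a', b', c', hab', hac', hbc', rfl⟩ := Finset.card_eq_three.mp hw3
  simp only [Finset.mem_insert, Finset.mem_singleton, not_or] at hx hwx
  obtain ⟨g, hg, g0, g1, g2, g3⟩ := exists_map_four (a := pt 23) (a' := pt 23) (b := a) (c := b)
    (d := c) (b' := a') (c' := b') (d' := c')
    (by simp [hx.1, hx.2.1, hx.2.2, hab, hac, hbc])
    (by simp [hwx.1, hwx.2.1, hwx.2.2, hab', hac', hbc'])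
  exact ⟨g, ⟨hg, g0⟩, by
    simp only [Finset.smul_finset_insert, Finset.smul_finset_singleton, Equiv.Perm.smul_def,
      g1, g2, g3]⟩

theorem natCard_stab_octad {o : Finset GolayPt} (ho : o ∈ octads) (hx : pt 23 ∈ o) :
    Nat.card ↥(PtStab ⊓ stabilizer (Equiv.Perm GolayPt) o) = 40320 := by
  rw [natCard_stab_of_orbit (fun w => w ∈ octads ∧ pt 23 ∈ w) o (n := 253) (by norm_num)
    (fun g hg => ⟨smul_mem_octads hg.1 ho, by
      rw [← apply_pt23 hg, apply_mem_smul_iff]; exact hx⟩) ?_ ?_]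
  · rintro w ⟨hw, hwx⟩
    obtain ⟨a, ha, hao, hap⟩ := exists_map_octad_point_in ho hx
    obtain ⟨b, hb, hbo, hbp⟩ := exists_map_octad_point_in hw hwx
    refine ⟨b * a⁻¹, Subgroup.mem_inf.mpr ⟨mul_mem hb (inv_mem ha), ?_⟩, ?_⟩
    · show b (a⁻¹ (pt 23)) = pt 23
      rw [Equiv.Perm.inv_eq_iff_eq.mpr hap.symm, hbp]
    · rw [mul_smul, show a⁻¹ • o = pts octad0 by rw [← hao, inv_smul_smul], hbo]
  · rw [ncard_eq_countSpan (p := fun m => popcount m == 8 && m.testBit 23) (fun s hs => hs.1.1)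
      fun m hm => by
        rw [mem_octads_iff, pts_mem_supports_iff (lt_of_isCode hm), mem_pts_iff (by norm_num),
          card_pts]
        simp [hm]]
    decide +kernel

theorem translations_spec : (trans6.all fun d =>
    isAut d && ((List.range 24).all fun i => !octad0.testBit i || fn d i == i)) &&
    (List.range 24).all (fun i => octad0.testBit i || trans6.any fun d => fn d 4 == i) = true := by
  decide +kernel

/-- The pointwise stabiliser of the standard octad, as a subgroup of its stabiliser. -/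
noncomputable def octFix :
    Subgroup ↥(PtStab ⊓ stabilizer (Equiv.Perm GolayPt) (pts octad0)) where
  carrier := {g | ∀ p ∈ pts octad0, (g : Equiv.Perm GolayPt) p = p}
  one_mem' := fun _ _ => rfl
  mul_mem' := fun {a b} ha hb p hp => by
    show (a : Equiv.Perm GolayPt) ((b : Equiv.Perm GolayPt) p) = p
    rw [hb p hp, ha p hp]
  inv_mem' := fun {a} ha p hp => by
    show (a : Equiv.Perm GolayPt)⁻¹ p = p
    rw [Equiv.Perm.inv_eq_iff_eq, ha p hp]

theorem octFix_isPGroup : IsPGroup 2 octFix := by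
  refine IsPGroup.of_card (n := 4) ?_
  have he : ∀ g : Equiv.Perm GolayPt, g ∈ M24 → (∀ p ∈ pts octad0, g p = p) → g ∈ chain 6 :=
    fun g hg h => mem_chain.mpr ⟨hg, fun i hi => h _ ((by decide +kernel :
      ∀ i < 6, bpt i ∈ pts octad0) i hi)⟩
  have hfix : ∀ g ∈ chain 6, g ∈ PtStab ⊓ stabilizer (Equiv.Perm GolayPt) (pts octad0) ∧
      ∀ p ∈ pts octad0, g p = p := by
    intro g hg
    obtain ⟨d, hd, haut, hdg⟩ := exists_transversal_mem (k := 6) (by norm_num) hg
    rw [chain_seven, Subgroup.mem_bot, inv_mul_eq_one] at hdg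
    subst hdg
    have hs := translations_spec
    simp only [Bool.and_eq_true, List.all_eq_true, List.mem_range, Bool.or_eq_true,
      Bool.not_eq_true', beq_iff_eq, decide_eq_true_eq] at hs
    have hp : ∀ p ∈ pts octad0, toPerm d p = p := fun p hp => by
      apply idx_injective
      rw [idx_toPerm (validPerm_of_isAut haut)]
      exact ((hs.1 d hd).2 (idx p) (idx_lt p)).resolve_left
        (by rw [mem_pts] at hp; simp [hp])
    refine ⟨⟨⟨toPerm_mem_M24 haut, hp _ (by decide +kernel)⟩, ?_⟩, hp⟩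
    show toPerm d • pts octad0 = pts octad0
    rw [smul_eq_image]
    exact (Finset.image_congr fun p hm => hp p hm).trans Finset.image_id
  have hcard : Nat.card octFix = Nat.card (chain 6) := by
    refine Nat.card_congr ⟨fun g => ⟨g.1.1, he _ g.1.2.1.1 g.2⟩,
      fun g => ⟨⟨g.1, (hfix g g.2).1⟩, (hfix g g.2).2⟩, fun g => rfl, fun g => rfl⟩
  rw [hcard, natCard_chain 6 (by norm_num)]
  rfl

theorem octFix_normal : octFix.Normal := by
  refine ⟨fun a ha g p hp => ?_⟩
  show (g : Equiv.Perm GolayPt) ((a : Equiv.Perm GolayPt) ((g : Equiv.Perm GolayPt)⁻¹ p)) = p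
  have hm : (g : Equiv.Perm GolayPt)⁻¹ p ∈ pts octad0 := by
    rw [← apply_mem_of_fixed (mem_stabilizer_iff.mp g.2.2)]
    simpa using hp
  rw [ha _ hm]
  simp

/-- The classification. -/
theorem exists_fixed_of_card {H : Subgroup (Equiv.Perm GolayPt)} (hH : H ≤ PtStab)
    (hcard : Nat.card H = 40320) :
    ∃ z : Finset GolayPt, ((z.card = 2 ∧ pt 23 ∉ z) ∨ (z ∈ octads ∧ pt 23 ∈ z)) ∧
      H = PtStab ⊓ stabilizer (Equiv.Perm GolayPt) z := by
  have hfin : ∀ z : Finset GolayPt, ((z.card = 2 ∧ pt 23 ∉ z) ∨ (z ∈ octads ∧ pt 23 ∈ z)) →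
      (∀ h ∈ H, h • z = z) → H = PtStab ⊓ stabilizer (Equiv.Perm GolayPt) z := by
    intro z hz hinv
    refine Subgroup.eq_of_le_of_card_ge (le_inf hH fun h hh => mem_stabilizer_iff.mpr (hinv h hh)) ?_
    rw [hcard]
    rcases hz with ⟨h2, hx⟩ | ⟨ho, hx⟩
    · rw [natCard_stab_pair h2 hx]
    · rw [natCard_stab_octad ho hx]
  let K := PtStab ⊓ stabilizer (Equiv.Perm GolayPt) (pts octad0)
  have hKcard : Nat.card K = 40320 := natCard_stab_octad octad0_mem (by decide +kernel)
  have : Fact (Nat.Prime 2) := ⟨Nat.prime_two⟩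
  -- Sylow subgroups of `H` and `K` are Sylow subgroups of the point stabiliser
  obtain ⟨S⟩ : Nonempty (Sylow 2 H) := Sylow.nonempty
  obtain ⟨T⟩ : Nonempty (Sylow 2 K) := Sylow.nonempty
  have hcardS : ∀ {L : Subgroup (Equiv.Perm GolayPt)}, Nat.card L = 40320 → ∀ P : Sylow 2 L,
      Nat.card P = 2 ^ 7 := fun {L} hL P => by
    rw [P.card_eq_multiplicity, hL,
      show Nat.factorization 40320 2 = 7 by
        rw [show (40320 : ℕ) = 2 ^ 7 * 315 by norm_num, Nat.factorization_mul (by norm_num)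
          (by norm_num), Nat.factorization_pow]
        simp [Nat.factorization_eq_zero_of_not_dvd (show ¬ 2 ∣ 315 by norm_num),
          Nat.prime_two.factorization]]
  have hM : Nat.factorization (Nat.card PtStab) 2 = 7 := by
    rw [natCard_PtStab, show (10200960 : ℕ) = 2 ^ 7 * 79695 by norm_num,
      Nat.factorization_mul (by norm_num) (by norm_num), Nat.factorization_pow]
    simp [Nat.factorization_eq_zero_of_not_dvd (show ¬ 2 ∣ 79695 by norm_num),
      Nat.prime_two.factorization]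
  have mk : ∀ {L : Subgroup (Equiv.Perm GolayPt)}, L ≤ PtStab → Nat.card L = 40320 →
      ∀ P : Sylow 2 L, ∃ Q : Sylow 2 PtStab, ∀ x : PtStab,
        x ∈ Q ↔ ∃ y : L, y ∈ P ∧ (y : Equiv.Perm GolayPt) = x := by
    intro L hL hLc P
    refine ⟨Sylow.ofCard ((P : Subgroup L).map (Subgroup.inclusion hL)) ?_, fun x => ?_⟩
    · rw [Subgroup.card_map_of_injective (Subgroup.inclusion_injective hL), hcardS hLc, hM]
    · show x ∈ (P : Subgroup L).map (Subgroup.inclusion hL) ↔ _
      rw [Subgroup.mem_map]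
      exact exists_congr fun y => and_congr_right fun _ =>
        ⟨fun h => congrArg Subtype.val h, fun h => Subtype.ext h⟩
  obtain ⟨QS, hQS⟩ := mk hH hcard S
  obtain ⟨QT, hQT⟩ := mk (inf_le_left : K ≤ PtStab) hKcard T
  obtain ⟨c, hc⟩ := exists_smul_eq (PtStab : Subgroup (Equiv.Perm GolayPt)) QT QS
  let u : Equiv.Perm GolayPt := c
  have hu : u ∈ PtStab := c.2
  have hN : (octFix : Subgroup K) ≤ (T : Subgroup K) := by
    have := octFix_normal
    exact T.3 (octFix_isPGroup.to_sup_of_normal_left T.2) le_sup_right ▸ le_sup_left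
  -- conjugates of translations lie in `H`
  have htrans : ∀ k : K, k ∈ octFix → u * k * u⁻¹ ∈ H := by
    intro k hk
    have hkQ : Subgroup.inclusion (inf_le_left : K ≤ PtStab) k ∈ QT :=
      (hQT _).mpr ⟨k, hN hk, rfl⟩
    have hmem : c * Subgroup.inclusion (inf_le_left : K ≤ PtStab) k * c⁻¹ ∈ QS := by
      rw [← hc]
      show _ ∈ ((c • QT : Sylow 2 PtStab) : Subgroup PtStab)
      rw [Sylow.coe_subgroup_smul]
      exact ⟨_, hkQ, rfl⟩
    obtain ⟨y, -, hy⟩ := (hQS _).mp hmem
    rw [show u * (k : Equiv.Perm GolayPt) * u⁻¹ = y from hy.symm]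
    exact y.2
  -- the orbit containing the points outside the octad
  have houtside : ∀ p, p ∉ pts octad0 → ∃ h ∈ H, h (u (pt 4)) = u p := by
    intro p hp
    have hs := translations_spec
    simp only [Bool.and_eq_true, List.all_eq_true, List.mem_range, Bool.or_eq_true,
      Bool.not_eq_true', beq_iff_eq, decide_eq_true_eq, List.any_eq_true] at hs
    obtain ⟨d, hd, hdp⟩ := (hs.2 (idx p) (idx_lt p)).resolve_left (by
      intro h; exact hp (mem_pts.mpr h))
    have hv := validPerm_of_isAut (hs.1 d hd).1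
    have hfix : ∀ q ∈ pts octad0, toPerm d q = q := fun q hq => by
      apply idx_injective
      rw [idx_toPerm hv]
      exact ((hs.1 d hd).2 (idx q) (idx_lt q)).resolve_left (by rw [mem_pts] at hq; simp [hq])
    have hK : toPerm d ∈ K := ⟨⟨toPerm_mem_M24 (hs.1 d hd).1, hfix _ (by decide +kernel)⟩, by
      show toPerm d • pts octad0 = pts octad0
      rw [smul_eq_image]
      exact (Finset.image_congr fun q hq => hfix q hq).trans Finset.image_id⟩
    refine ⟨_, htrans ⟨toPerm d, hK⟩ hfix, ?_⟩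
    show u (toPerm d (u⁻¹ (u (pt 4)))) = u p
    rw [Equiv.Perm.coe_inv, Equiv.symm_apply_apply, toPerm_pt hv (by norm_num), hdp, pt_idx]
  -- work with `o = u • octad0`
  classical
  let o := u • pts octad0
  have ho : o ∈ octads := smul_mem_octads hu.1 octad0_mem
  have hxo : pt 23 ∈ o := by
    rw [← apply_pt23 hu, apply_mem_smul_iff]; decide +kernel
  let Ω : Finset GolayPt := Finset.univ.filter fun p => ∃ h ∈ H, h (u (pt 4)) = p
  have hΩ : ∀ p, p ∈ Ω ↔ ∃ h ∈ H, h (u (pt 4)) = p := fun p => by simp [Ω]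
  have hΩinv : ∀ h ∈ H, ∀ p, h p ∈ Ω ↔ p ∈ Ω := fun h hh p => by
    rw [hΩ, hΩ]
    constructor
    · rintro ⟨k, hk, he⟩
      exact ⟨h⁻¹ * k, mul_mem (inv_mem hh) hk, by simp [he]⟩
    · rintro ⟨k, hk, he⟩
      exact ⟨h * k, mul_mem hh hk, by simp [he]⟩
  have hout : oᶜ ⊆ Ω := fun p hp => by
    rw [Finset.mem_compl, ← Equiv.apply_symm_apply u p, apply_mem_smul_iff] at hp
    obtain ⟨h, hh, he⟩ := houtside _ hp
    exact (hΩ p).mpr ⟨h, hh, by rw [he, Equiv.apply_symm_apply]⟩
  have hxΩ : pt 23 ∉ Ω := fun hx => by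
    obtain ⟨h, hh, he⟩ := (hΩ _).mp hx
    have := h.injective (he.trans (apply_pt23 (hH hh)).symm)
    rw [← apply_pt23 hu] at this
    exact (by decide +kernel : pt 4 ≠ pt 23) (u.injective this)
  let W : Finset GolayPt := Finset.univ \ (Ω ∪ {pt 23})
  have hWinv : ∀ h ∈ H, h • W = W := fun h hh => by
    refine Finset.eq_of_subset_of_card_le (fun p hp => ?_) (Finset.card_smul_finset _ _).ge
    obtain ⟨q, hq, rfl⟩ := Finset.mem_smul_finset.mp hp
    simp only [W, Finset.mem_sdiff, Finset.mem_univ, true_and, Finset.mem_union,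
      Finset.mem_singleton, not_or, Equiv.Perm.smul_def] at hq ⊢
    exact ⟨fun h' => hq.1 ((hΩinv h hh q).mp h'),
      fun h' => hq.2 (h.injective (h'.trans (apply_pt23 (hH hh)).symm))⟩
  have hWo : W ⊆ o := fun p hp => by
    by_contra hpo
    simp only [W, Finset.mem_sdiff, Finset.mem_union, not_or] at hp
    exact hp.2.1 (hout (Finset.mem_compl.mpr hpo))
  have hWx : pt 23 ∉ W := by simp [W]
  have hcards : Ω.card + W.card = 23 := by
    have h1 : W.card = 24 - (Ω.card + 1) := by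
      rw [Finset.card_sdiff_of_subset (Finset.subset_univ _), Finset.card_union_of_disjoint
        (Finset.disjoint_singleton_right.mpr hxΩ), Finset.card_univ]
      rfl
    have h2 : Ω.card + 1 ≤ 24 := by
      have := Finset.card_le_univ (Ω ∪ {pt 23})
      rw [Finset.card_union_of_disjoint (Finset.disjoint_singleton_right.mpr hxΩ)] at this
      simpa using this
    omega
  have h16 : 16 ≤ Ω.card := by
    have := Finset.card_le_card hout
    rwa [Finset.card_compl, ho.2] at this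
  have hdvd : Ω.card ∣ 40320 := by
    have he : (Ω : Set GolayPt) = orbit H (u (pt 4)) := by
      ext p
      rw [Finset.mem_coe, hΩ]
      exact ⟨fun ⟨h, hh, e⟩ => ⟨⟨h, hh⟩, e⟩, fun ⟨h, e⟩ => ⟨h, h.2, e⟩⟩
    rw [← Set.ncard_coe_finset, he, ← index_stabilizer, ← hcard]
    exact Subgroup.index_dvd_card _
  have hcases : Ω.card = 16 ∨ Ω.card = 18 ∨ Ω.card = 20 ∨ Ω.card = 21 := by
    have hle : Ω.card ≤ 23 := by omega
    have hk : ∀ k < 24, 16 ≤ k → k ∣ 40320 → k = 16 ∨ k = 18 ∨ k = 20 ∨ k = 21 := by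
      decide +kernel
    exact hk _ (by omega) h16 hdvd
  -- an invariant set of at least five points of `o` fixes `o`
  have hofix : 5 ≤ W.card + 1 → ∀ h ∈ H, h • o = o := fun h5 h hh => by
    refine octad_eq_of_five (smul_mem_octads (hH hh).1 ho) ho (le_trans h5 ?_)
    rw [← Finset.card_insert_of_notMem hWx]
    refine Finset.card_le_card (Finset.insert_subset ?_ ?_)
    · refine Finset.mem_inter.mpr ⟨?_, hxo⟩
      rw [← apply_pt23 (hH hh), apply_mem_smul_iff]
      exact hxo
    · refine Finset.subset_inter ?_ hWo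
      rw [← hWinv h hh]
      exact Finset.smul_finset_subset_smul_finset hWo
  rcases hcases with h | h | h | h
  · exact ⟨o, Or.inr ⟨ho, hxo⟩, hfin o (Or.inr ⟨ho, hxo⟩) (hofix (by omega))⟩
  · exfalso
    obtain ⟨p, hpΩ, hpo⟩ : ∃ p ∈ Ω, p ∈ o := by
      by_contra! hno
      have := Finset.card_le_card (show Ω ⊆ oᶜ from fun p hp => Finset.mem_compl.mpr (hno p hp))
      rw [Finset.card_compl, ho.2, h] at this
      exact absurd this (by decide)
    obtain ⟨k, hk, he⟩ := (hΩ p).mp hpΩ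
    rw [← he, apply_mem_of_fixed (hofix (by omega) k hk), apply_mem_smul_iff] at hpo
    exact (by decide +kernel : pt 4 ∉ pts octad0) hpo
  · exfalso
    have h5 : Nat.card H ≤ 5760 := by
      rw [← natCard_stab_triple (z := W) (by omega) hWx]
      exact Subgroup.card_le_of_le (le_inf hH fun k hk => mem_stabilizer_iff.mpr (hWinv k hk))
    omega
  · exact ⟨W, Or.inl ⟨by omega, hWx⟩, hfin W (Or.inl ⟨by omega, hWx⟩) hWinv⟩

end Cfsg.Agent.GolayOrbits
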